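import Groth.Agent.Lib.RigFlatH7.CplFunctor

/-! Flatness at rig-closed points gives flatness at every non-open prime, and composes. -/

set_option autoImplicit false
set_option linter.style.haveILetI false
universe u

namespace Groth.Agent.RigFlatH7

variable {P Q R : Type u} [CommRing P] [CommRing Q] [CommRing R]

/-- Flatness at the rig-closed points gives flatness at every prime not containing the ideal. -/
theorem flat_at_of_rigFlat [IsNoetherianRing Q] (ψ : P →+* Q) (J : Ideal Q)
    (h : ∀ q : PrimeSpectrum Q, (¬ J ≤ q.asIdeal ∧ ∀ y : PrimeSpectrum Q, q ≤ y → ¬ J ≤ y.asIdeal → y = q) →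
      ((algebraMap Q (Localization.AtPrime q.asIdeal)).comp ψ).Flat)
    (p : Ideal Q) [p.IsPrime] (hp : ¬ J ≤ p) : ((algebraMap Q (Localization.AtPrime p)).comp ψ).Flat := by
  let S : Set (Ideal Q) := {y | y.IsPrime ∧ p ≤ y ∧ ¬ J ≤ y}
  obtain ⟨y, ⟨hy, hpy, hJy⟩, hmax⟩ := WellFounded.has_min (r := (· > ·)) wellFounded_gt S ⟨p, ‹_›, le_rfl, hp⟩
  haveI := hy
  have hq := h ⟨y, hy⟩ ⟨hJy, fun z hz hzJ => PrimeSpectrum.ext (by
    by_contra hne
    exact hmax z.asIdeal ⟨z.2, hpy.trans hz, hzJ⟩ (lt_of_le_of_ne hz (Ne.symm hne)))⟩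
  have hM : y.primeCompl ≤ Submonoid.comap (RingHom.id Q) p.primeCompl := fun x hx hxp => hx (hpy hxp)
  let l : Localization.AtPrime y →+* Localization.AtPrime p :=
    IsLocalization.map (Localization.AtPrime p) (RingHom.id Q) hM
  have hl : l.Flat := by
    letI := l.toAlgebra
    haveI : IsScalarTower Q (Localization.AtPrime y) (Localization.AtPrime p) :=
      IsScalarTower.of_algebraMap_eq fun x => (IsLocalization.map_eq hM x).symm
    show Module.Flat (Localization.AtPrime y) (Localization.AtPrime p)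
    exact (Module.flat_iff_of_isLocalization (Localization.AtPrime y) y.primeCompl
      (Localization.AtPrime p)).2 (IsLocalization.flat _ p.primeCompl)
  have h2 := RingHom.Flat.comp hq hl
  have e : l.comp ((algebraMap Q (Localization.AtPrime y)).comp ψ) = (algebraMap Q (Localization.AtPrime p)).comp ψ :=
    RingHom.ext fun x => IsLocalization.map_eq hM (ψ x)
  rw [← e]
  exact h2

/-- Composition. -/
theorem rigFlat_comp [IsNoetherianRing Q] (ψ : P →+* Q) (χ : Q →+* R) (J : Ideal Q) (J' : Ideal R) (hJ : J.map χ = J')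
    (h : ∀ q : PrimeSpectrum Q, (¬ J ≤ q.asIdeal ∧ ∀ y : PrimeSpectrum Q, q ≤ y → ¬ J ≤ y.asIdeal → y = q) →
      ((algebraMap Q (Localization.AtPrime q.asIdeal)).comp ψ).Flat)
    (r : PrimeSpectrum R) (hr : ¬ J' ≤ r.asIdeal)
    (hχ : ((algebraMap R (Localization.AtPrime r.asIdeal)).comp χ).Flat) :
    ((algebraMap R (Localization.AtPrime r.asIdeal)).comp (χ.comp ψ)).Flat := by
  subst hJ
  let p := r.asIdeal.comap χ
  have h1 := flat_at_of_rigFlat ψ J h p fun hle => hr (Ideal.map_le_iff_le_comap.2 hle)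
  let χ' := Localization.localRingHom p r.asIdeal χ rfl
  have h2 : χ'.Flat := by
    letI := χ'.toAlgebra
    letI := ((algebraMap R (Localization.AtPrime r.asIdeal)).comp χ).toAlgebra
    haveI : IsScalarTower Q (Localization.AtPrime p) (Localization.AtPrime r.asIdeal) :=
      IsScalarTower.of_algebraMap_eq fun x => (Localization.localRingHom_to_map p r.asIdeal χ rfl x).symm
    show Module.Flat (Localization.AtPrime p) (Localization.AtPrime r.asIdeal)
    exact (Module.flat_iff_of_isLocalization (Localization.AtPrime p) p.primeCompl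
      (Localization.AtPrime r.asIdeal)).2 hχ
  have e : χ'.comp ((algebraMap Q (Localization.AtPrime p)).comp ψ) =
      (algebraMap R (Localization.AtPrime r.asIdeal)).comp (χ.comp ψ) :=
    RingHom.ext fun x => Localization.localRingHom_to_map p r.asIdeal χ rfl (ψ x)
  rw [← e]
  exact RingHom.Flat.comp h1 h2

end Groth.Agent.RigFlatH7
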