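import Groth.Agent.Lib.FlatH4.LocCrit
import Mathlib.RingTheory.Flat.Basic
import Mathlib.RingTheory.LocalRing.Quotient
import Mathlib.LinearAlgebra.Basis.VectorSpace

/-! Flatness over an unramified local algebra. -/

set_option autoImplicit false
universe u

open TensorProduct

namespace Groth.Agent.RigFlatH7

/-- If the maximal ideal of `R` comes from `A`, an `A`-flat local `R`-algebra is `R`-flat. -/
theorem flat_of_map_eq_maximalIdeal {A R L : Type u} [CommRing A] [CommRing R] [CommRing L] [IsLocalRing R]
    [IsLocalRing L] [IsNoetherianRing R] [IsNoetherianRing L] [Algebra A R] [Algebra A L] [Algebra R L]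
    [IsScalarTower A R L] [Module.Flat A L] [IsLocalHom (algebraMap R L)]
    (p : Ideal A) (hp : p.map (algebraMap A R) = IsLocalRing.maximalIdeal R) : Module.Flat R L := by
  let m := IsLocalRing.maximalIdeal R
  refine FlatH4.flat_of_le_jacobson (S := L) m ?_ ?_ ?_
  · rw [IsLocalRing.jacobson_eq_maximalIdeal ⊥ bot_ne_top]
    exact Ideal.map_le_iff_le_comap.2 fun x hx => (IsLocalRing.mem_maximalIdeal _).2 fun h =>
      (IsLocalRing.mem_maximalIdeal x).1 hx (h.of_map (algebraMap R L) x)
  · let φ : p →ₗ[A] m :=
      { toFun := fun a => ⟨algebraMap A R a, hp.le (Ideal.mem_map_of_mem _ a.2)⟩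
        map_add' := fun a b => Subtype.ext (map_add _ _ _)
        map_smul' := fun c a => Subtype.ext (by
          show algebraMap A R (c * (a : A)) = c • algebraMap A R (a : A)
          rw [map_mul, Algebra.smul_def]) }
    let ε : R ⊗[A] p →ₗ[R] m := φ.liftBaseChange R
    have hε : ∀ (r : R) (a : p), ((ε (r ⊗ₜ a) : m) : R) = r * algebraMap A R a := fun r a => by
      simp only [ε, LinearMap.liftBaseChange_tmul, SetLike.val_smul, smul_eq_mul]
      rfl
    have hεs : Function.Surjective ε := by
      rintro ⟨x, hx⟩
      suffices ∀ y ∈ p.map (algebraMap A R), ∃ z, ((ε z : m) : R) = y by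
        obtain ⟨z, hz⟩ := this x (hp.ge hx :)
        exact ⟨z, Subtype.ext hz⟩
      intro y hy
      induction hy using Submodule.span_induction with
      | mem y hy =>
        obtain ⟨a, ha, rfl⟩ := hy
        exact ⟨1 ⊗ₜ ⟨a, ha⟩, by rw [hε, one_mul]⟩
      | zero => exact ⟨0, by rw [map_zero]; rfl⟩
      | add u v _ _ hu hv =>
        obtain ⟨u', rfl⟩ := hu
        obtain ⟨v', rfl⟩ := hv
        exact ⟨u' + v', by rw [map_add]; rfl⟩
      | smul c u _ hu =>
        obtain ⟨u', rfl⟩ := hu
        exact ⟨c • u', by rw [map_smul]; rfl⟩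
    let e := AlgebraTensorModule.cancelBaseChange A R R L p
    have hcomm : ∀ z, (TensorProduct.rid R L) (m.subtype.lTensor L (ε.lTensor L z)) =
        (TensorProduct.rid A L) (p.subtype.lTensor L (e z)) := by
      intro z
      induction z with
      | zero => simp
      | add x y hx hy => simp only [map_add, hx, hy]
      | tmul l w =>
        induction w with
        | zero => simp
        | add x y hx hy => simp only [tmul_add, map_add, hx, hy]
        | tmul r a =>
          simp only [e, LinearMap.lTensor_tmul, AlgebraTensorModule.cancelBaseChange_tmul,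
            Submodule.subtype_apply, TensorProduct.rid_tmul, hε]
          rw [mul_comm, mul_smul, algebraMap_smul]
    have hinjA : Function.Injective (p.subtype.lTensor L) :=
      Module.Flat.lTensor_preserves_injective_linearMap _ Subtype.val_injective
    rw [injective_iff_map_eq_zero]
    intro x hx
    obtain ⟨z, rfl⟩ := LinearMap.lTensor_surjective L hεs x
    have h1 := hcomm z
    rw [hx, map_zero] at h1
    have h2 : e z = 0 := hinjA (((TensorProduct.rid A L).map_eq_zero_iff.mp h1.symm).trans (map_zero _).symm)
    rw [(LinearEquiv.map_eq_zero_iff e).mp h2, map_zero]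
  · letI := Ideal.Quotient.field m
    haveI : Module.Free (R ⧸ m) ((R ⧸ m) ⊗[R] L) := inferInstance
    exact Module.Flat.of_free

end Groth.Agent.RigFlatH7
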