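import Groth.Agent.Lib.RigFlatH7.CplFunctor
import Groth.Agent.Lib.Compl.Noetherian
import Mathlib.RingTheory.AdicCompletion.AsTensorProduct
import Mathlib.RingTheory.Etale.Basic
import Mathlib.RingTheory.Localization.Ideal

/-! Completed localisations at one element over a noetherian ring. -/

set_option autoImplicit false
universe u

namespace Groth.Agent.RigFlatH7

variable {C : Type u} [CommRing C] (K : Ideal C) (g : C)

/-- The completed localisation at `g`. -/
abbrev CplAway : Type u := AdicCompletion (K.map (algebraMap C (Localization.Away g))) (Localization.Away g)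

variable [IsNoetherianRing C]

theorem isNoetherianRing_cplAway : IsNoetherianRing (CplAway K g) :=
  have : IsNoetherianRing (Localization.Away g) :=
    IsLocalization.isNoetherianRing (Submonoid.powers g) _ inferInstance
  Compl.isNoetherianRing_adicCompletion _ (IsNoetherian.noetherian _)

theorem isAdicComplete_cplAway : IsAdicComplete (K.map (algebraMap C (CplAway K g))) (CplAway K g) :=
  Lib.RigH7.isAdicComplete_completion (IsNoetherian.noetherian K)

theorem flat_cplAway : Module.Flat C (CplAway K g) := by
  have : IsNoetherianRing (Localization.Away g) :=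
    IsLocalization.isNoetherianRing (Submonoid.powers g) _ inferInstance
  have : Module.Flat C (Localization.Away g) := IsLocalization.flat _ (Submonoid.powers g)
  exact Module.Flat.trans C (Localization.Away g) _

omit [IsNoetherianRing C] in
theorem isUnit_cplAway : IsUnit (algebraMap C (CplAway K g) g) := by
  rw [IsScalarTower.algebraMap_apply C (Localization.Away g) (CplAway K g)]
  exact (IsLocalization.Away.algebraMap_isUnit g).map _

/-- Modulo the ideal, the completed localisation is the localisation of the quotient. -/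
theorem isLocalizationAway_quotient :
    IsLocalization.Away (Ideal.Quotient.mk K g) (CplAway K g ⧸ K.map (algebraMap C (CplAway K g))) := by
  haveI : IsNoetherianRing (Localization.Away g) :=
    IsLocalization.isNoetherianRing (Submonoid.powers g) _ inferInstance
  let L := Localization.Away g
  let J := K.map (algebraMap C L)
  let Q := CplAway K g ⧸ K.map (algebraMap C (CplAway K g))
  have hmap : K.map (algebraMap C (CplAway K g)) = J.map (algebraMap L (CplAway K g)) :=
    Lib.RigH7.map_completion K
  let e0 : (L ⧸ J) →ₐ[C] Q := Ideal.quotientMapₐ _ (IsScalarTower.toAlgHom C L (CplAway K g))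
    (by rw [hmap]; exact Ideal.le_comap_map)
  have hinj : Function.Injective e0 := by
    rw [injective_iff_map_eq_zero]
    intro y hy
    obtain ⟨c, rfl⟩ := Ideal.Quotient.mk_surjective y
    have hc : algebraMap L (CplAway K g) c ∈ (J ^ 1).map (algebraMap L (AdicCompletion J L)) := by
      rw [pow_one, ← hmap]
      exact Ideal.Quotient.eq_zero_iff_mem.1 hy
    rw [← FormalH7.ker_evalₐ_eq_map J (IsNoetherian.noetherian J) 1, RingHom.mem_ker] at hc
    change AdicCompletion.evalₐ J 1 (algebraMap L _ c) = 0 at hc
    rw [AlgHom.commutes] at hc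
    refine Ideal.Quotient.eq_zero_iff_mem.2 ?_
    have h2 := Ideal.Quotient.eq_zero_iff_mem.1 hc
    rwa [pow_one] at h2
  have hsurj : Function.Surjective e0 := fun y => by
    obtain ⟨x, rfl⟩ := Ideal.Quotient.mk_surjective y
    obtain ⟨c, hc⟩ := Lib.RigH7.exists_sub_mem (IsNoetherian.noetherian K) x 1
    rw [pow_one] at hc
    exact ⟨Ideal.Quotient.mk J c, (Ideal.Quotient.eq.2 hc).symm⟩
  let e := AlgEquiv.ofBijective e0 ⟨hinj, hsurj⟩
  haveI : IsLocalization.Away (Ideal.Quotient.mk K g) (L ⧸ J) := by
    have : IsLocalization (Algebra.algebraMapSubmonoid (C ⧸ K) (Submonoid.powers g)) (L ⧸ J) := inferInstance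
    rwa [show Algebra.algebraMapSubmonoid (C ⧸ K) (Submonoid.powers g) = Submonoid.powers (Ideal.Quotient.mk K g) from
      Submonoid.map_powers _ _] at this
  let e' : (L ⧸ J) ≃ₐ[C ⧸ K] Q :=
    { e with
      commutes' := fun y => by
        obtain ⟨c, rfl⟩ := Ideal.Quotient.mk_surjective y
        show e (algebraMap (C ⧸ K) (L ⧸ J) (Ideal.Quotient.mk K c)) = algebraMap (C ⧸ K) Q (Ideal.Quotient.mk K c)
        rw [← Ideal.Quotient.algebraMap_eq, ← IsScalarTower.algebraMap_apply, ← IsScalarTower.algebraMap_apply]
        exact e.commutes c }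
  exact IsLocalization.isLocalization_of_algEquiv (Submonoid.powers (Ideal.Quotient.mk K g)) e'

/-- Finite type modulo the ideal. -/
theorem finiteType_cplAway (A : Type u) [CommRing A] [Algebra A C] (h : Algebra.FiniteType A (C ⧸ K)) :
    Algebra.FiniteType A (CplAway K g ⧸ K.map (algebraMap C (CplAway K g))) := by
  have hl := isLocalizationAway_quotient K g
  haveI : IsScalarTower A C (CplAway K g ⧸ K.map (algebraMap C (CplAway K g))) :=
    IsScalarTower.of_algebraMap_eq fun a =>
      congrArg (Ideal.Quotient.mk (K.map (algebraMap C (CplAway K g)))) (IsScalarTower.algebraMap_apply A C (CplAway K g) a)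
  haveI : IsScalarTower A (C ⧸ K) (CplAway K g ⧸ K.map (algebraMap C (CplAway K g))) :=
    IsScalarTower.of_algebraMap_eq fun a => by
      rw [IsScalarTower.algebraMap_apply A C (C ⧸ K), ← IsScalarTower.algebraMap_apply C (C ⧸ K),
        ← IsScalarTower.algebraMap_apply A C]
  haveI := hl
  haveI : Algebra.FiniteType (C ⧸ K) (CplAway K g ⧸ K.map (algebraMap C (CplAway K g))) := by
    haveI := IsLocalization.Away.finitePresentation (Ideal.Quotient.mk K g)
      (S := CplAway K g ⧸ K.map (algebraMap C (CplAway K g)))
    infer_instance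
  exact h.trans inferInstance

/-- Étale modulo the ideal. -/
theorem etale_cplAway (A₀ : Type u) [CommRing A₀] [Algebra A₀ (C ⧸ K)] (h : Algebra.Etale A₀ (C ⧸ K))
    [Algebra A₀ (CplAway K g ⧸ K.map (algebraMap C (CplAway K g)))]
    (ht : ∀ (a : A₀) (c : C), algebraMap A₀ (C ⧸ K) a = Ideal.Quotient.mk K c →
      algebraMap A₀ (CplAway K g ⧸ K.map (algebraMap C (CplAway K g))) a = Ideal.Quotient.mk _ (algebraMap C (CplAway K g) c)) :
    Algebra.Etale A₀ (CplAway K g ⧸ K.map (algebraMap C (CplAway K g))) := by
  haveI := isLocalizationAway_quotient K g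
  haveI : IsScalarTower A₀ (C ⧸ K) (CplAway K g ⧸ K.map (algebraMap C (CplAway K g))) :=
    IsScalarTower.of_algebraMap_eq fun a => by
      obtain ⟨c, hc⟩ := Ideal.Quotient.mk_surjective (algebraMap A₀ (C ⧸ K) a)
      rw [ht a c hc.symm, ← hc]
      exact IsScalarTower.algebraMap_apply C (C ⧸ K) (CplAway K g ⧸ K.map (algebraMap C (CplAway K g))) c
  haveI := Algebra.Etale.of_isLocalizationAway (A := CplAway K g ⧸ K.map (algebraMap C (CplAway K g)))
    (Ideal.Quotient.mk K g)
  exact Algebra.Etale.comp A₀ (C ⧸ K) _

omit [IsNoetherianRing C] in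
theorem map_eq_map_cplAway {A : Type u} [CommRing A] [Algebra A C] (I : Ideal A) (J : Ideal C)
    (hJ : I.map (algebraMap A C) = J) :
    I.map (algebraMap A (CplAway J g)) = J.map (algebraMap C (CplAway J g)) := by
  subst hJ
  exact (congrArg (fun φ => I.map φ) (IsScalarTower.algebraMap_eq A C (CplAway (I.map (algebraMap A C)) g))).trans
    (Ideal.map_map _ _).symm

/-- An étale reduction stays étale after a completed localisation. -/
theorem etale_reduction_cplAway {A : Type u} [CommRing A] [Algebra A C] (I : Ideal A)
    [Algebra.Etale (A ⧸ I) (C ⧸ I.map (algebraMap A C))] :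
    Algebra.Etale (A ⧸ I) (CplAway (I.map (algebraMap A C)) g ⧸
      I.map (algebraMap A (CplAway (I.map (algebraMap A C)) g))) := by
  let X := CplAway (I.map (algebraMap A C)) g
  let K' := (I.map (algebraMap A C)).map (algebraMap C X)
  have hK : I.map (algebraMap A X) = K' := map_eq_map_cplAway g I _ rfl
  letI : Algebra (A ⧸ I) (X ⧸ K') := (Ideal.quotientMap K' (algebraMap A X)
    (Ideal.map_le_iff_le_comap.1 hK.le)).toAlgebra
  haveI : Algebra.Etale (A ⧸ I) (X ⧸ K') := etale_cplAway _ g (A ⧸ I) inferInstance fun a c hac => by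
    obtain ⟨a, rfl⟩ := Ideal.Quotient.mk_surjective a
    have h : Ideal.Quotient.mk (I.map (algebraMap A C)) (algebraMap A C a - c) = 0 := by
      rw [map_sub, sub_eq_zero]
      exact hac
    have h2 := Ideal.mem_map_of_mem (algebraMap C X) (Ideal.Quotient.eq_zero_iff_mem.1 h)
    rw [map_sub, ← IsScalarTower.algebraMap_apply A C X] at h2
    exact Ideal.Quotient.eq.2 h2
  exact Algebra.Etale.of_equiv (AlgEquiv.ofRingEquiv (f := Ideal.quotEquivOfEq hK.symm) fun a => by
    obtain ⟨a, rfl⟩ := Ideal.Quotient.mk_surjective a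
    rfl)

end Groth.Agent.RigFlatH7
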