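import Groth.Agent.S8840
import Groth.Agent.S8838
import Groth.Agent.Lib.RigFlatH7.CplAway
import Groth.Agent.Lib.RigFlatH7.Crit
import Groth.Agent.Lib.HopfFF23.Basic

/-! Auxiliary statements for rig flatness and étale reductions, in abstract rings. -/

set_option autoImplicit false
set_option linter.style.haveILetI false
universe u

namespace Groth.Agent.RigFlatH7

/-- Flatness over an étale reduction at rig-closed points lying over rig-closed points. -/
theorem flat_of_rigClosed_etale {A : Type u} [CommRing A] [IsNoetherianRing A] (I : Ideal A) [IsAdicComplete I A]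
    {R T : Type u} [CommRing R] [CommRing T] [Algebra A R] [Algebra A T] [Algebra R T] [IsScalarTower A R T]
    [IsNoetherianRing R] [IsNoetherianRing T] [IsAdicComplete (I.map (algebraMap A R)) R]
    (hftR : Algebra.FiniteType A (R ⧸ I.map (algebraMap A R))) [Module.Flat A R]
    [Algebra.Etale (A ⧸ I) (R ⧸ I.map (algebraMap A R))]
    (Q : PrimeSpectrum T) (P : PrimeSpectrum R) (hPQ : P.asIdeal = Q.asIdeal.comap (algebraMap R T))
    (hP : ¬ I.map (algebraMap A R) ≤ P.asIdeal ∧
      ∀ y : PrimeSpectrum R, P ≤ y → ¬ I.map (algebraMap A R) ≤ y.asIdeal → y = P)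
    (hp : ¬ I ≤ (PrimeSpectrum.comap (algebraMap A R) P).asIdeal ∧
      ∀ y : PrimeSpectrum A, PrimeSpectrum.comap (algebraMap A R) P ≤ y → ¬ I ≤ y.asIdeal →
        y = PrimeSpectrum.comap (algebraMap A R) P)
    (hA : ((algebraMap T (Localization.AtPrime Q.asIdeal)).comp (algebraMap A T)).Flat) :
    ((algebraMap T (Localization.AtPrime Q.asIdeal)).comp (algebraMap R T)).Flat := by
  haveI := P.isPrime
  haveI := Q.isPrime
  have hmax := Groth.Agent.S8838.result A I R hftR P hP hp
  let Rl := Localization.AtPrime P.asIdeal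
  let L := Localization.AtPrime Q.asIdeal
  haveI : IsNoetherianRing Rl := IsLocalization.isNoetherianRing P.asIdeal.primeCompl _ inferInstance
  haveI : IsNoetherianRing L := IsLocalization.isNoetherianRing Q.asIdeal.primeCompl _ inferInstance
  let χ := Localization.localRingHom P.asIdeal Q.asIdeal (algebraMap R T) hPQ
  letI : Algebra Rl L := χ.toAlgebra
  haveI : Module.Flat A L := by
    rw [← RingHom.flat_algebraMap_iff, IsScalarTower.algebraMap_eq A T L]
    exact hA
  haveI : IsScalarTower A Rl L := IsScalarTower.of_algebraMap_eq fun x => by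
    show algebraMap A L x = χ (algebraMap A Rl x)
    rw [IsScalarTower.algebraMap_apply A R Rl, IsScalarTower.algebraMap_apply A T L, IsScalarTower.algebraMap_apply A R T]
    exact (Localization.localRingHom_to_map P.asIdeal Q.asIdeal (algebraMap R T) hPQ _).symm
  haveI : IsLocalHom (algebraMap Rl L) := Localization.isLocalHom_localRingHom P.asIdeal Q.asIdeal (algebraMap R T) hPQ
  have hχ : χ.Flat := flat_of_map_eq_maximalIdeal (A := A) (R := Rl) (L := L)
    (PrimeSpectrum.comap (algebraMap A R) P).asIdeal (by
      rw [IsScalarTower.algebraMap_eq A R Rl, ← Ideal.map_map]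
      exact hmax)
  have e : (algebraMap T L).comp (algebraMap R T) = χ.comp (algebraMap R Rl) :=
    RingHom.ext fun x => (Localization.localRingHom_to_map P.asIdeal Q.asIdeal (algebraMap R T) hPQ x).symm
  rw [e]
  exact (RingHom.flat_algebraMap_iff.2 (IsLocalization.flat Rl P.asIdeal.primeCompl)).comp hχ

/-- Descent of flatness along a flat map sending one prime to another. -/
theorem flat_descend {R R' T T' : Type u} [CommRing R] [CommRing R'] [CommRing T] [CommRing T']
    (α : R →+* R') (β : T →+* T') (φ : R →+* T) (φ' : R' →+* T') (hα : α.Flat) (hβ : β.Flat)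
    (hcomm : ∀ r, φ' (α r) = β (φ r)) (q : Ideal T) [q.IsPrime] (Q : Ideal T') [Q.IsPrime] (hqQ : q = Q.comap β)
    (h : ((algebraMap T' (Localization.AtPrime Q)).comp φ').Flat) :
    ((algebraMap T (Localization.AtPrime q)).comp φ).Flat := by
  let β' := Localization.localRingHom q Q β hqQ
  have hβ' : β'.FaithfullyFlat := by
    letI := β'.toAlgebra
    haveI : Module.Flat (Localization.AtPrime q) (Localization.AtPrime Q) :=
      RingHom.Flat.localRingHom hβ Q q hqQ
    haveI : IsLocalHom (algebraMap (Localization.AtPrime q) (Localization.AtPrime Q)) :=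
      Localization.isLocalHom_localRingHom q Q β hqQ
    exact Module.FaithfullyFlat.of_flat_of_isLocalHom
  refine HopfFF23.flat_of_comp_faithfullyFlat _ β' hβ' ?_
  have e : β'.comp ((algebraMap T (Localization.AtPrime q)).comp φ) =
      ((algebraMap T' (Localization.AtPrime Q)).comp φ').comp α := RingHom.ext fun r => by
    show β' (algebraMap T _ (φ r)) = algebraMap T' _ (φ' (α r))
    rw [hcomm]
    exact Localization.localRingHom_to_map q Q β hqQ _
  rw [e]
  exact hα.comp h

variable {C : Type u} [CommRing C] (K : Ideal C) (g : C)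

/-- The map of a completed localisation to a complete algebra in which the element is invertible. -/
theorem exists_cplAway_lift {D : Type u} [CommRing D] [Algebra C D] [IsAdicComplete (K.map (algebraMap C D)) D]
    (hg : IsUnit (algebraMap C D g)) : Nonempty (CplAway K g →ₐ[C] D) := by
  obtain ⟨δ, -⟩ := Lib.RigH7.exists_lift (I := K) (B := D)
    (IsLocalization.liftAlgHom (M := Submonoid.powers g) (S := Localization.Away g)
      (f := Algebra.ofId C D) (fun y => by
        obtain ⟨_, k, rfl⟩ := y
        show IsUnit (algebraMap C D (g ^ k))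
        rw [map_pow]
        exact hg.pow k))
  exact ⟨δ⟩

/-- Maps out of a completed localisation are determined by the base. -/
theorem cplAway_hom_ext [IsNoetherianRing C] {D : Type u} [CommRing D] [Algebra C D]
    [IsAdicComplete (K.map (algebraMap C D)) D] (F G : CplAway K g →ₐ[C] D) : F = G :=
  Lib.RigH7.hom_ext (IsNoetherian.noetherian K) fun c => by
    have := IsLocalization.algHom_ext (A := C) (B := D) (Submonoid.powers g)
      (f := F.comp (IsScalarTower.toAlgHom C (Localization.Away g) (CplAway K g)))
      (g := G.comp (IsScalarTower.toAlgHom C (Localization.Away g) (CplAway K g))) (Subsingleton.elim _ _)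
    exact DFunLike.congr_fun this c

/-- The kernel of the map to the quotient by a rig-closed prime is rig-closed. -/
theorem rigClosed_ker {J : Ideal C} (p : PrimeSpectrum C)
    (hp : ¬ J ≤ p.asIdeal ∧ ∀ y : PrimeSpectrum C, p ≤ y → ¬ J ≤ y.asIdeal → y = p)
    {C' : Type u} [CommRing C'] [Algebra C C'] (δ : C' →ₐ[C] C ⧸ p.asIdeal) (P : PrimeSpectrum C')
    (hP : P.asIdeal = RingHom.ker δ.toRingHom) :
    ¬ J.map (algebraMap C C') ≤ P.asIdeal ∧
      ∀ y : PrimeSpectrum C', P ≤ y → ¬ J.map (algebraMap C C') ≤ y.asIdeal → y = P := by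
  have hδ : ∀ x, δ (algebraMap C C' x) = Ideal.Quotient.mk p.asIdeal x := δ.commutes
  refine ⟨fun hle => hp.1 fun a ha => ?_, fun y hy hyJ => PrimeSpectrum.ext (le_antisymm ?_ hy)⟩
  · have h : algebraMap C C' a ∈ RingHom.ker δ.toRingHom := hP ▸ hle (Ideal.mem_map_of_mem _ ha)
    change δ (algebraMap C C' a) = 0 at h
    rw [hδ] at h
    exact Ideal.Quotient.eq_zero_iff_mem.1 h
  · have h3 := hp.2 (PrimeSpectrum.comap (algebraMap C C') y)
      (fun x hx => hy (hP.ge (show δ (algebraMap C C' x) = 0 by rw [hδ]; exact Ideal.Quotient.eq_zero_iff_mem.2 hx)))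
      (fun hle => hyJ (Ideal.map_le_iff_le_comap.2 hle))
    intro x hx
    obtain ⟨r, hr⟩ := Ideal.Quotient.mk_surjective (δ x)
    have h4 : x - algebraMap C C' r ∈ P.asIdeal := hP.ge (by
      show δ (x - algebraMap C C' r) = 0
      rw [map_sub, hδ, hr, sub_self])
    have h5 : algebraMap C C' r ∈ y.asIdeal := by
      have := sub_mem hx (hy h4)
      rwa [sub_sub_cancel] at this
    refine hP.ge ?_
    show δ x = 0
    rw [← hr]
    exact Ideal.Quotient.eq_zero_iff_mem.2 ((congrArg PrimeSpectrum.asIdeal h3).le h5)

end Groth.Agent.RigFlatH7
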