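import Groth.Agent.Lib.FormalH7.FlatCplMap
import Groth.Agent.Lib.RigH7.Complete
import Mathlib.RingTheory.RingHom.FaithfullyFlat

/-! Functoriality of completed localisations. -/

set_option autoImplicit false
set_option linter.style.haveILetI false
universe u

namespace Groth.Agent.RigFlatH7

open Groth.Agent.FormalH7

variable {C D : Type u} [CommRing C] [CommRing D] (J : Ideal C) (K : Ideal D) (g : C →+* D)

/-- Ring maps between completions are determined on the dense subring. -/
theorem cpl_hom_ext (hJ : J.FG) (hK : K.FG) (h : J.map g ≤ K) {G G' : AdicCompletion J C →+* AdicCompletion K D}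
    (hG : ∀ c, G (algebraMap C _ c) = algebraMap D _ (g c))
    (hG' : ∀ c, G' (algebraMap C _ c) = algebraMap D _ (g c)) : G = G' := by
  haveI := Lib.RigH7.isAdicComplete_completion_of_fg (C := D) (J := K) hK
  refine RingHom.ext fun x => ?_
  rw [IsHausdorff.eq_iff_smodEq (I := K.map (algebraMap D (AdicCompletion K D)))]
  intro n
  obtain ⟨c, hc⟩ := Ideal.Quotient.mk_surjective (AdicCompletion.evalₐ J n x)
  have hx : x - algebraMap C _ c ∈ (J ^ n).map (algebraMap C (AdicCompletion J C)) := by
    rw [← ker_evalₐ_eq_map J hJ n, RingHom.mem_ker]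
    show AdicCompletion.evalₐ J n (x - algebraMap C _ c) = 0
    rw [map_sub, AlgHom.commutes, sub_eq_zero, ← hc]
    rfl
  have hm : ∀ H : AdicCompletion J C →+* AdicCompletion K D, (∀ c, H (algebraMap C _ c) = algebraMap D _ (g c)) →
      H (x - algebraMap C _ c) ∈ (K.map (algebraMap D (AdicCompletion K D))) ^ n := by
    intro H hH
    have h1 := Ideal.mem_map_of_mem H hx
    rw [Ideal.map_map, show H.comp (algebraMap C (AdicCompletion J C)) =
      (algebraMap D (AdicCompletion K D)).comp g from RingHom.ext hH, Ideal.map_pow, ← Ideal.map_map] at h1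
    exact Ideal.pow_right_mono (Ideal.map_mono h) n h1
  rw [SModEq.sub_mem, smul_eq_mul, Ideal.mul_top]
  have h2 := sub_mem (hm G hG) (hm G' hG')
  rwa [map_sub, map_sub, hG, hG', sub_sub_sub_cancel_right] at h2

theorem awayMap_algebraMap (f c : C) :
    Localization.awayMap g f (algebraMap C (Localization.Away f) c) = algebraMap D (Localization.Away (g f)) (g c) := by
  simp [Localization.awayMap, IsLocalization.Away.map, IsLocalization.map_eq]

/-- Localisation away from an element preserves flatness. -/
theorem flat_awayMap (hg : g.Flat) (f : C) : (Localization.awayMap g f).Flat := by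
  letI : Algebra (Localization.Away f) (Localization.Away (g f)) := (Localization.awayMap g f).toAlgebra
  letI := g.toAlgebra
  haveI : Module.Flat C D := hg
  haveI : IsScalarTower C (Localization.Away f) (Localization.Away (g f)) :=
    IsScalarTower.of_algebraMap_eq fun c => by
      rw [IsScalarTower.algebraMap_apply C D (Localization.Away (g f))]
      exact (awayMap_algebraMap g f c).symm
  haveI : Module.Flat D (Localization.Away (g f)) := IsLocalization.flat _ (Submonoid.powers (g f))
  haveI : Module.Flat C (Localization.Away (g f)) := Module.Flat.trans C D _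
  show Module.Flat (Localization.Away f) (Localization.Away (g f))
  exact (Module.flat_iff_of_isLocalization (Localization.Away f) (Submonoid.powers f)
    (Localization.Away (g f))).2 inferInstance

/-- Localisation away from an element preserves faithful flatness. -/
theorem faithfullyFlat_awayMap (hg : g.FaithfullyFlat) (f : C) : (Localization.awayMap g f).FaithfullyFlat := by
  obtain ⟨hfl, hsurj⟩ := RingHom.FaithfullyFlat.iff_flat_and_comap_surjective.1 hg
  refine RingHom.FaithfullyFlat.iff_flat_and_comap_surjective.2 ⟨flat_awayMap g hfl f, fun P => ?_⟩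
  obtain ⟨p', hp'⟩ := hsurj ⟨P.asIdeal.comap (algebraMap C (Localization.Away f)), Ideal.comap_isPrime _ _⟩
  have hp'' : p'.asIdeal.comap g = P.asIdeal.comap (algebraMap C (Localization.Away f)) :=
    congrArg PrimeSpectrum.asIdeal hp'
  have hdis : Disjoint (Submonoid.powers (g f) : Set D) (p'.asIdeal : Set D) := by
    refine (Ideal.disjoint_powers_iff_notMem _ p'.2.isRadical).2 fun hmem => P.2.ne_top ?_
    have h1 : algebraMap C (Localization.Away f) f ∈ P.asIdeal := hp''.le (show f ∈ p'.asIdeal.comap g from hmem)
    exact Ideal.eq_top_of_isUnit_mem _ h1 (IsLocalization.Away.algebraMap_isUnit f)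
  have hprime := IsLocalization.isPrime_of_isPrime_disjoint (Submonoid.powers (g f)) (Localization.Away (g f)) _ p'.2 hdis
  refine ⟨⟨_, hprime⟩, PrimeSpectrum.ext ?_⟩
  show (p'.asIdeal.map (algebraMap D (Localization.Away (g f)))).comap (Localization.awayMap g f) = P.asIdeal
  have e : ∀ Q : Ideal (Localization.Away f),
      Q = (Q.comap (algebraMap C (Localization.Away f))).map (algebraMap C (Localization.Away f)) := fun Q =>
    (IsLocalization.map_comap (Submonoid.powers f) (Localization.Away f) Q).symm
  have hu : (p'.asIdeal.map (algebraMap D (Localization.Away (g f)))).comap (algebraMap D (Localization.Away (g f))) =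
      p'.asIdeal := IsLocalization.comap_map_of_isPrime_disjoint (Submonoid.powers (g f)) _ p'.2 hdis
  rw [e ((p'.asIdeal.map _).comap _), e P.asIdeal, Ideal.comap_comap,
    show (Localization.awayMap g f).comp (algebraMap C (Localization.Away f)) =
      (algebraMap D (Localization.Away (g f))).comp g from RingHom.ext fun c => awayMap_algebraMap g f c,
    ← Ideal.comap_comap, hu, hp'']

/-- Completion preserves faithful flatness. -/
theorem faithfullyFlat_complMap [IsNoetherianRing C] [IsNoetherianRing D] (hg : g.FaithfullyFlat) (hK : J.map g = K) :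
    (FSch.complMap J K g hK.le).FaithfullyFlat := by
  letI := (FSch.complMap J K g hK.le).toAlgebra
  haveI : Module.Flat (AdicCompletion J C) (AdicCompletion K D) := flat_complMap J K g hg.flat hK
  haveI := Lib.RigH7.isAdicComplete_completion_of_fg (C := C) (J := J) (IsNoetherian.noetherian J)
  show Module.FaithfullyFlat (AdicCompletion J C) (AdicCompletion K D)
  refine ⟨fun m hm => ?_⟩
  let ev := (AdicCompletion.evalₐ J 1).toRingHom
  have hker : RingHom.ker ev ≤ m := by
    rw [ker_evalₐ_eq_map J (IsNoetherian.noetherian J) 1, pow_one]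
    exact (IsAdicComplete.le_jacobson_bot _).trans (sInf_le ⟨bot_le, hm⟩)
  have hs : Function.Surjective ev := AdicCompletion.surjective_evalₐ J 1
  haveI := hm
  have hm0 : (m.map ev).IsPrime := Ideal.map_isPrime_of_surjective hs hker
  let P : PrimeSpectrum C := ⟨(m.map ev).comap (Ideal.Quotient.mk (J ^ 1)), Ideal.comap_isPrime _ _⟩
  obtain ⟨Q, hQ⟩ := (RingHom.FaithfullyFlat.iff_flat_and_comap_surjective.1 hg).2 P
  have hQ' : Q.asIdeal.comap g = P.asIdeal := congrArg PrimeSpectrum.asIdeal hQ
  have hJP : J ≤ P.asIdeal := fun x hx => by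
    show Ideal.Quotient.mk (J ^ 1) x ∈ m.map ev
    rw [Ideal.Quotient.eq_zero_iff_mem.2 (by rwa [pow_one])]
    exact zero_mem _
  have hKQ : RingHom.ker (Ideal.Quotient.mk (K ^ 1)) ≤ Q.asIdeal := by
    rw [Ideal.mk_ker, pow_one, ← hK, Ideal.map_le_iff_le_comap, hQ']
    exact hJP
  let T : Ideal (AdicCompletion K D) :=
    (Q.asIdeal.map (Ideal.Quotient.mk (K ^ 1))).comap (AdicCompletion.evalₐ K 1).toRingHom
  haveI hT0 : (Q.asIdeal.map (Ideal.Quotient.mk (K ^ 1))).IsPrime :=
    Ideal.map_isPrime_of_surjective Ideal.Quotient.mk_surjective hKQ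
  have hT : T ≠ ⊤ := (Ideal.comap_isPrime _ _ : T.IsPrime).ne_top
  intro htop
  refine hT (eq_top_iff.2 ?_)
  have h1 : m.map (algebraMap (AdicCompletion J C) (AdicCompletion K D)) ≤ T := by
    refine Ideal.map_le_iff_le_comap.2 fun x hx => ?_
    show AdicCompletion.evalₐ K 1 (FSch.complMap J K g hK.le x) ∈ Q.asIdeal.map (Ideal.Quotient.mk (K ^ 1))
    rw [evalₐ_complMap J K g hK.le 1 x]
    obtain ⟨c, hc⟩ := Ideal.Quotient.mk_surjective (AdicCompletion.evalₐ J 1 x)
    rw [← hc, Ideal.quotientMap_mk]
    refine Ideal.mem_map_of_mem _ (hQ'.ge ?_)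
    show Ideal.Quotient.mk (J ^ 1) c ∈ m.map ev
    rw [hc]
    exact Ideal.mem_map_of_mem ev hx
  refine le_trans (le_of_eq ?_) h1
  have h2 : ((m.map (algebraMap (AdicCompletion J C) (AdicCompletion K D))).restrictScalars (AdicCompletion J C)) = ⊤ := by
    rw [← Ideal.smul_top_eq_map]
    exact htop
  exact ((Submodule.restrictScalars_eq_top_iff _ _ _).1 h2).symm

end Groth.Agent.RigFlatH7
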