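import Groth.Agent.Lib.RigFlatH7.RigClosed
import Mathlib.RingTheory.RingHom.Flat
import Mathlib.RingTheory.Finiteness.FinitePresentationLocal

/-! Flatness at rig-closed points of a completed localisation. -/

universe u

open TensorProduct

namespace Groth.Agent.RigFlatH7

theorem map_jacobson_le {R S : Type u} [CommRing R] [CommRing S] (f : R →+* S) (hf : Function.Surjective f) :
    ((⊥ : Ideal R).jacobson).map f ≤ (⊥ : Ideal S).jacobson := by
  refine Ideal.map_le_iff_le_comap.mpr fun x hx => ?_
  rw [Ideal.mem_comap, Ideal.jacobson, Ideal.mem_sInf]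
  rintro M ⟨-, hM⟩
  haveI := hM
  exact Ideal.mem_sInf.mp hx ⟨bot_le, Ideal.comap_isMaximal_of_surjective f hf⟩

/-- `A' ⧸ p'` flatness transferred from `A ⧸ p`. -/
theorem flat_quotient_of_surjective {A A' : Type u} [CommRing A] [CommRing A'] [Algebra A A']
    {L : Type u} [AddCommGroup L] [Module A L] [Module A' L] [IsScalarTower A A' L] [Module.Flat A L]
    (p : Ideal A) (p' : Ideal A') (hp : p'.comap (algebraMap A A') = p)
    (hmap : p.map (algebraMap A A') = p') (hs : ∀ x, ∃ a, x - algebraMap A A' a ∈ p') :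
    Module.Flat (A' ⧸ p') ((A' ⧸ p') ⊗[A'] L) := by
  let θ : A ⧸ p →ₐ[A] A' ⧸ p' := Ideal.Quotient.liftₐ p (Algebra.ofId A (A' ⧸ p'))
    fun a ha => Ideal.Quotient.eq_zero_iff_mem.mpr (hp.ge ha :)
  letI : Algebra (A ⧸ p) (A' ⧸ p') := θ.toRingHom.toAlgebra
  haveI : IsScalarTower A (A ⧸ p) (A' ⧸ p') := IsScalarTower.of_algebraMap_eq fun a => (θ.commutes a).symm
  have hθ : ∀ a : A, algebraMap (A ⧸ p) (A' ⧸ p') (Ideal.Quotient.mk p a) =
      Ideal.Quotient.mk p' (algebraMap A A' a) := fun a => rfl
  haveI : IsLocalization (⊥ : Submonoid (A ⧸ p)) (A' ⧸ p') := by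
    refine (isLocalization_iff _ _).mpr ⟨fun ⟨y, hy⟩ => ?_, fun z => ?_, fun {x y} h => ⟨1, ?_⟩⟩
    · obtain rfl := Submonoid.mem_bot.mp hy
      show IsUnit (algebraMap (A ⧸ p) (A' ⧸ p') 1)
      rw [map_one]; exact isUnit_one
    · obtain ⟨x, rfl⟩ := Ideal.Quotient.mk_surjective z
      obtain ⟨a, ha⟩ := hs x
      refine ⟨(Ideal.Quotient.mk p a, 1), ?_⟩
      rw [OneMemClass.coe_one, map_one, mul_one, hθ]
      exact Ideal.Quotient.eq.mpr ha
    · obtain ⟨a, rfl⟩ := Ideal.Quotient.mk_surjective x
      obtain ⟨b, rfl⟩ := Ideal.Quotient.mk_surjective y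
      rw [hθ, hθ, Ideal.Quotient.eq, ← map_sub] at h
      rw [OneMemClass.coe_one, one_mul, one_mul, Ideal.Quotient.eq]
      exact hp.le h
  let N := (A' ⧸ p') ⊗[A'] L
  rw [Module.flat_iff_of_isLocalization (A' ⧸ p') (⊥ : Submonoid (A ⧸ p))]
  have hsmul : (p' • (⊤ : Submodule A' L)).restrictScalars A = p • (⊤ : Submodule A L) := by
    rw [← hmap, Ideal.smul_restrictScalars, Submodule.restrictScalars_top]
  let E : N ≃ₗ[A] (A ⧸ p) ⊗[A] L :=
    ((TensorProduct.quotTensorEquivQuotSMul L p').restrictScalars A) ≪≫ₗ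
      ((Submodule.Quotient.restrictScalarsEquiv A _).symm ≪≫ₗ
        (Submodule.quotEquivOfEq _ _ hsmul ≪≫ₗ (TensorProduct.quotTensorEquivQuotSMul L p).symm))
  exact Module.Flat.of_linearEquiv (E.extendScalarsOfSurjective Ideal.Quotient.mk_surjective)

/-- Flatness at a rig-closed point, with abstract completed localisations. -/
theorem flat_at_rigClosed {A : Type u} [CommRing A] [IsNoetherianRing A] (I : Ideal A)
    [IsAdicComplete I A] [IsJacobsonRing (A ⧸ I)] {B : Type u} [CommRing B] [Algebra A B]
    [Algebra.FiniteType A (B ⧸ I.map (algebraMap A B))]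
    (hnaive : ∀ q : PrimeSpectrum B, (¬ I.map (algebraMap A B) ≤ q.asIdeal ∧
      ∀ y : PrimeSpectrum B, q ≤ y → ¬ I.map (algebraMap A B) ≤ y.asIdeal → y = q) →
        (algebraMap A (Localization.AtPrime q.asIdeal)).Flat)
    (f : A) {A' : Type u} [CommRing A'] [Algebra A A'] [IsNoetherianRing A'] [Module.Flat A A']
    (hA'jac : I.map (algebraMap A A') ≤ (⊥ : Ideal A').jacobson)
    (hfA' : IsUnit (algebraMap A A' f))
    (hA'dense : ∀ x : A', ∃ (k : ℕ) (a : A),
      algebraMap A A' f ^ k * x - algebraMap A A' a ∈ I.map (algebraMap A A'))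
    {B' : Type u} [CommRing B'] [Algebra A B'] [Algebra B B'] [IsScalarTower A B B']
    [IsNoetherianRing B'] [Module.Flat B B']
    (hB'jac : I.map (algebraMap A B') ≤ (⊥ : Ideal B').jacobson)
    (hB'dense : ∀ x : B', ∃ (k : ℕ) (b : B),
      algebraMap A B' f ^ k * x - algebraMap B B' b ∈ I.map (algebraMap A B'))
    (ψ : A' →+* B') (hψA : ∀ a, ψ (algebraMap A A' a) = algebraMap A B' a)
    (q' : PrimeSpectrum B') (hq1 : ¬ I.map (algebraMap A B') ≤ q'.asIdeal)
    (hq2 : ∀ y : PrimeSpectrum B', q' ≤ y → ¬ I.map (algebraMap A B') ≤ y.asIdeal → y = q') :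
    ((algebraMap B' (Localization.AtPrime q'.asIdeal)).comp ψ).Flat := by
  classical
  have hfB' : IsUnit (algebraMap A B' f) := hψA f ▸ hfA'.map ψ
  let D := B' ⧸ q'.asIdeal
  haveI : IsDomain D := Ideal.Quotient.isDomain _
  have hmapD : I.map (algebraMap A D) = (I.map (algebraMap A B')).map (Ideal.Quotient.mk q'.asIdeal) := by
    rw [Ideal.map_map]; rfl
  have hDne : I.map (algebraMap A D) ≠ ⊥ := fun e => hq1 (by
    rw [← Ideal.mk_ker (I := q'.asIdeal), ← Ideal.map_eq_bot_iff_le_ker, ← hmapD, e])
  have hjac : I.map (algebraMap A D) ≤ (⊥ : Ideal D).jacobson := by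
    rw [hmapD]
    exact (Ideal.map_mono hB'jac).trans (map_jacobson_le _ Ideal.Quotient.mk_surjective)
  haveI : Algebra.FiniteType A (D ⧸ I.map (algebraMap A D)) := by
    let IB := I.map (algebraMap A B)
    let T := D ⧸ I.map (algebraMap A D)
    let π : B →ₐ[A] T := IsScalarTower.toAlgHom A B T
    let π0 : (B ⧸ IB) →ₐ[A] T := Ideal.Quotient.liftₐ IB π (by
      suffices IB ≤ RingHom.ker π.toRingHom from fun x hx => this hx
      refine Ideal.map_le_iff_le_comap.mpr fun r hr => ?_
      show π (algebraMap A B r) = 0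
      rw [AlgHom.commutes, IsScalarTower.algebraMap_apply A D T]
      exact Ideal.Quotient.eq_zero_iff_mem.mpr (Ideal.mem_map_of_mem _ hr))
    letI : Algebra (B ⧸ IB) T := π0.toRingHom.toAlgebra
    haveI : IsScalarTower A (B ⧸ IB) T := IsScalarTower.of_algebraMap_eq fun r => (π0.commutes r).symm
    haveI : IsScalarTower B (B ⧸ IB) T := IsScalarTower.of_algebraMap_eq fun r => rfl
    let g : B := algebraMap A B f
    have hgT : IsUnit (algebraMap B T g) := by
      rw [← IsScalarTower.algebraMap_apply A B T, IsScalarTower.algebraMap_apply A B' T]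
      exact hfB'.map _
    letI : Algebra (Localization.Away g) T := (IsLocalization.Away.lift g hgT).toAlgebra
    haveI : IsScalarTower B (Localization.Away g) T :=
      IsScalarTower.of_algebraMap_eq fun b => (IsLocalization.Away.lift_eq g hgT b).symm
    haveI : Algebra.FiniteType B (Localization.Away g) := by
      haveI := IsLocalization.Away.finitePresentation g (S := Localization.Away g)
      infer_instance
    haveI : Algebra.FiniteType B T := by
      refine Algebra.FiniteType.of_surjective (A := Localization.Away g)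
        (IsScalarTower.toAlgHom B (Localization.Away g) T) fun y => ?_
      obtain ⟨d, rfl⟩ := Ideal.Quotient.mk_surjective y
      obtain ⟨x, rfl⟩ := Ideal.Quotient.mk_surjective d
      obtain ⟨k, b, hb⟩ := hB'dense x
      refine ⟨IsLocalization.mk' (Localization.Away g) b (⟨g ^ k, k, rfl⟩ : Submonoid.powers g), ?_⟩
      refine (hgT.pow k).mul_left_cancel ?_
      rw [← map_pow, IsScalarTower.algebraMap_apply B (Localization.Away g) T (g ^ k)]
      show algebraMap (Localization.Away g) T _ * algebraMap (Localization.Away g) T _ = _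
      rw [← map_mul, IsLocalization.mk'_spec' (Localization.Away g) b
        (⟨g ^ k, k, rfl⟩ : Submonoid.powers g), ← IsScalarTower.algebraMap_apply B (Localization.Away g) T,
        ← IsScalarTower.algebraMap_apply B (Localization.Away g) T, map_pow,
        ← IsScalarTower.algebraMap_apply A B T]
      refine ((Ideal.Quotient.eq).mpr ?_).symm
      have h2 := Ideal.mem_map_of_mem (Ideal.Quotient.mk q'.asIdeal) hb
      rw [← hmapD, map_sub, map_mul, map_pow] at h2
      exact h2
    haveI : Algebra.FiniteType (B ⧸ IB) T := Algebra.FiniteType.of_restrictScalars_finiteType B _ _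
    exact Algebra.FiniteType.trans (S := B ⧸ IB) inferInstance inferInstance
  have hrig : ∀ P : Ideal D, P.IsPrime → P ≠ ⊥ → I.map (algebraMap A D) ≤ P := by
    intro P hP hP0
    by_contra hnle
    have h := hq2 ⟨P.comap (Ideal.Quotient.mk q'.asIdeal), Ideal.comap_isPrime _ _⟩
      (fun x hx => by
        show Ideal.Quotient.mk q'.asIdeal x ∈ P
        rw [Ideal.Quotient.eq_zero_iff_mem.mpr hx]; exact P.zero_mem)
      (fun hle => hnle (by rw [hmapD, Ideal.map_le_iff_le_comap]; exact hle))
    refine hP0 ?_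
    rw [← Ideal.map_comap_of_surjective _ Ideal.Quotient.mk_surjective P,
      show P.comap (Ideal.Quotient.mk q'.asIdeal) = q'.asIdeal from congrArg PrimeSpectrum.asIdeal h,
      Ideal.map_quotient_self]
  haveI : Module.Finite A D := finite_of_rigClosed I hDne hjac hrig
  haveI : Algebra.IsIntegral A D := Algebra.IsIntegral.of_finite A D
  haveI : Algebra.IsIntegral B D := Algebra.IsIntegral.tower_top A
  -- the contraction to `B` is rig-closed
  let q : PrimeSpectrum B := ⟨q'.asIdeal.comap (algebraMap B B'), Ideal.comap_isPrime _ _⟩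
  have hqrig : ¬ I.map (algebraMap A B) ≤ q.asIdeal ∧
      ∀ y : PrimeSpectrum B, q ≤ y → ¬ I.map (algebraMap A B) ≤ y.asIdeal → y = q := by
    constructor
    · intro hle
      refine hq1 ?_
      rw [IsScalarTower.algebraMap_eq A B B', ← Ideal.map_map]
      exact Ideal.map_le_iff_le_comap.mpr hle
    · intro y hqy hyI
      have hker : (⊥ : Ideal D).comap (algebraMap B D) ≤ y.asIdeal := fun x hx =>
        hqy (show algebraMap B B' x ∈ q'.asIdeal from Ideal.Quotient.eq_zero_iff_mem.mp (Ideal.mem_bot.mp hx :))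
      obtain ⟨Q, -, hQ, hQy⟩ := Ideal.exists_ideal_over_prime_of_isIntegral (S := D) y.asIdeal ⊥ hker
      have hQ0 : Q = ⊥ := by
        by_contra hne
        refine hyI ?_
        rw [← hQy]
        refine Ideal.map_le_iff_le_comap.mpr fun a ha => ?_
        show algebraMap B D (algebraMap A B a) ∈ Q
        rw [← IsScalarTower.algebraMap_apply A B D]
        exact hrig Q hQ hne (Ideal.mem_map_of_mem _ ha)
      refine PrimeSpectrum.ext ?_
      rw [← hQy, hQ0]
      ext x
      rw [Ideal.mem_comap, Submodule.mem_bot]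
      exact Ideal.Quotient.eq_zero_iff_mem
  -- flatness of the stalk over `A`
  let L := Localization.AtPrime q'.asIdeal
  haveI : IsNoetherianRing L := IsLocalization.isNoetherianRing q'.asIdeal.primeCompl _ inferInstance
  have hABL : (algebraMap A L).Flat := by
    have h1 := RingHom.Flat.comp (hnaive q hqrig)
      (RingHom.Flat.localRingHom (RingHom.flat_algebraMap_iff.mpr ‹Module.Flat B B'›) q'.asIdeal q.asIdeal rfl)
    convert h1 using 1
    ext a
    rw [RingHom.comp_apply, IsScalarTower.algebraMap_apply A B (Localization.AtPrime q.asIdeal),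
      Localization.localRingHom_to_map, ← IsScalarTower.algebraMap_apply A B B',
      ← IsScalarTower.algebraMap_apply A B' L]
  letI : Algebra A' L := ((algebraMap B' L).comp ψ).toAlgebra
  haveI : IsScalarTower A A' L := IsScalarTower.of_algebraMap_eq fun a => by
    show algebraMap A L a = algebraMap B' L (ψ (algebraMap A A' a))
    rw [hψA, ← IsScalarTower.algebraMap_apply A B' L]
  haveI : Module.Flat A L := RingHom.flat_algebraMap_iff.mp hABL
  let p' : Ideal A' := q'.asIdeal.comap ψ
  let p : Ideal A := p'.comap (algebraMap A A')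
  have hp_mem : ∀ a, a ∈ p ↔ algebraMap A D a = 0 := fun a => by
    show ψ (algebraMap A A' a) ∈ q'.asIdeal ↔ _
    rw [hψA, IsScalarTower.algebraMap_apply A B' D]
    exact Ideal.Quotient.eq_zero_iff_mem.symm
  -- `f` is invertible modulo `p`
  obtain ⟨h₀, hh₀⟩ : ∃ h₀ : A, f * h₀ - 1 ∈ p := by
    let K := RingHom.ker (algebraMap A D)
    letI : Algebra (A ⧸ K) D := (RingHom.kerLift (algebraMap A D)).toAlgebra
    haveI : IsScalarTower A (A ⧸ K) D := IsScalarTower.of_algebraMap_eq fun r => rfl
    haveI : Algebra.IsIntegral (A ⧸ K) D := Algebra.IsIntegral.tower_top A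
    haveI : FaithfulSMul (A ⧸ K) D :=
      (faithfulSMul_iff_algebraMap_injective _ _).mpr (RingHom.kerLift_injective _)
    have hu : IsUnit (algebraMap (A ⧸ K) D (Ideal.Quotient.mk K f)) := by
      show IsUnit (algebraMap A D f)
      rw [IsScalarTower.algebraMap_apply A B' D]
      exact hfB'.map _
    obtain ⟨v, hv⟩ := (isUnit_of_map_unit _ _ hu).exists_right_inv
    obtain ⟨h₀, rfl⟩ := Ideal.Quotient.mk_surjective v
    refine ⟨h₀, (hp_mem _).mpr (RingHom.mem_ker.mp (Ideal.Quotient.eq.mp ?_))⟩
    rw [map_mul, hv, map_one]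
  -- `p' = p A'`
  let P := p.map (algebraMap A A')
  have hPp' : P ≤ p' := Ideal.map_le_iff_le_comap.mpr le_rfl
  have hsurj : ∀ x : A', ∃ a : A, x - algebraMap A A' a ∈ P := by
    let Q := A' ⧸ P
    have hQjac : I.map (algebraMap A Q) ≤ (⊥ : Ideal Q).jacobson := by
      rw [IsScalarTower.algebraMap_eq A A' Q, ← Ideal.map_map, Ideal.Quotient.algebraMap_eq]
      exact (Ideal.map_mono hA'jac).trans (map_jacobson_le _ Ideal.Quotient.mk_surjective)
    haveI : IsHausdorff (I.map (algebraMap A Q)) Q := IsHausdorff.of_le_jacobson _ _ hQjac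
    have hs : Function.Surjective (algebraMap A Q) := by
      refine surjective_of_mk_map_comp_surjective (I := I) (algebraMap A Q) fun y => ?_
      obtain ⟨z, rfl⟩ := Ideal.Quotient.mk_surjective y
      obtain ⟨x, rfl⟩ := Ideal.Quotient.mk_surjective z
      obtain ⟨k, a, ha⟩ := hA'dense x
      refine ⟨h₀ ^ k * a, (Ideal.Quotient.eq.mpr ?_).symm⟩
      have h1 : Ideal.Quotient.mk P (algebraMap A A' h₀ * algebraMap A A' f) = 1 := by
        rw [← map_one (Ideal.Quotient.mk P), ← map_mul, Ideal.Quotient.eq, ← map_one (algebraMap A A'),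
          ← map_sub, mul_comm]
        exact Ideal.mem_map_of_mem _ hh₀
      have h2 := Ideal.mul_mem_left _ (Ideal.Quotient.mk P (algebraMap A A' h₀ ^ k))
        (Ideal.mem_map_of_mem (Ideal.Quotient.mk P) ha)
      rw [Ideal.map_map, show (Ideal.Quotient.mk P).comp (algebraMap A A') = algebraMap A Q from rfl] at h2
      convert h2 using 1
      rw [map_sub, mul_sub, ← map_mul, ← map_mul, ← mul_assoc, ← mul_pow,
        map_mul (Ideal.Quotient.mk P) (_ ^ k) x, map_pow (Ideal.Quotient.mk P), h1, one_pow, one_mul]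
      simp only [IsScalarTower.algebraMap_apply A A' Q, map_mul, map_pow]
      rfl
    intro x
    obtain ⟨a, ha⟩ := hs (Ideal.Quotient.mk P x)
    exact ⟨a, Ideal.Quotient.eq.mp ha.symm⟩
  have hpP : P = p' := by
    refine le_antisymm hPp' fun x hx => ?_
    obtain ⟨a, ha⟩ := hsurj x
    have hap : a ∈ p := by
      have := Ideal.sub_mem _ hx (hPp' ha)
      rwa [sub_sub_cancel] at this
    have := Ideal.add_mem _ ha (Ideal.mem_map_of_mem (algebraMap A A') hap)
    rwa [sub_add_cancel] at this
  -- local criterion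
  show Module.Flat A' L
  refine Groth.Agent.FlatH4.flat_of_le_jacobson (S := L) p' ?_ ?_
    (flat_quotient_of_surjective p p' rfl hpP fun x => by rw [← hpP]; exact hsurj x)
  · rw [IsLocalRing.jacobson_eq_maximalIdeal ⊥ bot_ne_top]
    refine Ideal.map_le_iff_le_comap.mpr fun x hx => ?_
    show algebraMap B' L (ψ x) ∈ IsLocalRing.maximalIdeal L
    exact (IsLocalization.AtPrime.to_map_mem_maximal_iff L q'.asIdeal (ψ x)).mpr hx
  · let φ : p →ₗ[A] p' :=
      { toFun := fun a => ⟨algebraMap A A' a, a.2⟩
        map_add' := fun a b => Subtype.ext (map_add _ _ _)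
        map_smul' := fun c a => Subtype.ext (by
          show algebraMap A A' (c * (a : A)) = c • algebraMap A A' (a : A)
          rw [map_mul, Algebra.smul_def]) }
    let ε : A' ⊗[A] p →ₗ[A'] p' := φ.liftBaseChange A'
    have hε : ∀ (a' : A') (a : p), ((ε (a' ⊗ₜ a) : p') : A') = a' * algebraMap A A' a := fun a' a => by
      simp only [ε, LinearMap.liftBaseChange_tmul, SetLike.val_smul, smul_eq_mul]
      rfl
    have hεs : Function.Surjective ε := by
      rintro ⟨x, hx⟩
      suffices ∀ y ∈ p.map (algebraMap A A'), ∃ z, ((ε z : p') : A') = y by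
        obtain ⟨z, hz⟩ := this x (hpP.ge hx :)
        exact ⟨z, Subtype.ext hz⟩
      intro y hy
      induction hy using Submodule.span_induction with
      | mem y hy =>
        obtain ⟨a, ha, rfl⟩ := hy
        exact ⟨1 ⊗ₜ ⟨a, ha⟩, by rw [hε, one_mul]⟩
      | zero => exact ⟨0, by rw [map_zero]; rfl⟩
      | add u v _ _ hu hv =>
        obtain ⟨u', rfl⟩ := hu
        obtain ⟨v', rfl⟩ := hv
        exact ⟨u' + v', by rw [map_add]; rfl⟩
      | smul c u _ hu =>
        obtain ⟨u', rfl⟩ := hu
        exact ⟨c • u', by rw [map_smul]; rfl⟩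
    let e := AlgebraTensorModule.cancelBaseChange A A' A' L p
    have hcomm : ∀ z, (TensorProduct.rid A' L) (p'.subtype.lTensor L (ε.lTensor L z)) =
        (TensorProduct.rid A L) (p.subtype.lTensor L (e z)) := by
      intro z
      induction z with
      | zero => simp
      | add x y hx hy => simp only [map_add, hx, hy]
      | tmul l w =>
        induction w with
        | zero => simp
        | add x y hx hy => simp only [tmul_add, map_add, hx, hy]
        | tmul a' a =>
          simp only [e, LinearMap.lTensor_tmul, AlgebraTensorModule.cancelBaseChange_tmul,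
            Submodule.subtype_apply, TensorProduct.rid_tmul, hε]
          rw [mul_comm, mul_smul, algebraMap_smul]
    have hinjA : Function.Injective (p.subtype.lTensor L) :=
      Module.Flat.lTensor_preserves_injective_linearMap _ Subtype.val_injective
    rw [injective_iff_map_eq_zero]
    intro x hx
    obtain ⟨z, rfl⟩ := LinearMap.lTensor_surjective L hεs x
    have h1 := hcomm z
    rw [hx, map_zero] at h1
    have h2 : e z = 0 := hinjA (((TensorProduct.rid A L).map_eq_zero_iff.mp h1.symm).trans (map_zero _).symm)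
    rw [(LinearEquiv.map_eq_zero_iff e).mp h2, map_zero]

end Groth.Agent.RigFlatH7
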