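import Groth.Agent.Lib.RigFlatH7.RigEtaleAux
import Groth.Agent.Lib.RigFlatH7.RigComp

/-! From rig flatness of the base to flatness along completed localisations. -/

set_option autoImplicit false
set_option linter.style.haveILetI false
universe u

namespace Groth.Agent.RigFlatH7

variable {B T' : Type u} [CommRing B] [CommRing T'] [Algebra B T'] [IsNoetherianRing B] [IsNoetherianRing T']
  (K : Ideal B) (g : B)

/-- The map of a completed localisation into a flat complete algebra is flat. -/
theorem exists_flat_cplAway_lift [Module.Flat B T'] [IsAdicComplete (K.map (algebraMap B T')) T']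
    (hg : IsUnit (algebraMap B T' g)) :
    ∃ β : CplAway K g →+* T', β.Flat ∧ ∀ b, β (algebraMap B (CplAway K g) b) = algebraMap B T' b := by
  let L := Localization.Away g
  haveI : IsNoetherianRing L := IsLocalization.isNoetherianRing (Submonoid.powers g) _ inferInstance
  let l : L →+* T' := IsLocalization.Away.lift g hg
  have hl : ∀ b, l (algebraMap B L b) = algebraMap B T' b := fun b => IsLocalization.Away.lift_eq g hg b
  have hlf : l.Flat := by
    letI : Algebra L T' := l.toAlgebra
    haveI : IsScalarTower B L T' := IsScalarTower.of_algebraMap_eq fun b => (hl b).symm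
    show Module.Flat L T'
    exact (Module.flat_iff_of_isLocalization L (Submonoid.powers g) T').2 inferInstance
  let J := K.map (algebraMap B T')
  have hK : (K.map (algebraMap B L)).map l = J := by
    rw [Ideal.map_map, show l.comp (algebraMap B L) = algebraMap B T' from RingHom.ext hl]
  have hbij : Function.Bijective (algebraMap T' (AdicCompletion J T')) := by
    have h : ⇑(algebraMap T' (AdicCompletion J T')) = ⇑(AdicCompletion.of J T') := by
      funext x
      apply AdicCompletion.ext
      intro n
      rfl
    rw [h]
    exact AdicCompletion.of_bijective_iff.2 inferInstance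
  let e := RingEquiv.ofBijective _ hbij
  refine ⟨e.symm.toRingHom.comp (FSch.complMap _ J l hK.le),
    (FormalH7.flat_complMap _ J l hlf hK).comp (RingHom.Flat.of_bijective e.symm.bijective), fun b => ?_⟩
  show e.symm (FSch.complMap _ J l hK.le (algebraMap B (CplAway K g) b)) = _
  rw [RingEquiv.symm_apply_eq, IsScalarTower.algebraMap_apply B L (CplAway K g), FormalH7.complMap_algebraMap, hl]
  rfl

theorem flat_at_of_base {A : Type u} [CommRing A] [IsNoetherianRing A] [Algebra A B] [Algebra A T']
    [IsScalarTower A B T'] (I : Ideal A) (h : A) (hK : K = I.map (algebraMap A B)) (hg : g = algebraMap A B h)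
    [Module.Flat B T'] [IsAdicComplete (I.map (algebraMap A T')) T'] (hu : IsUnit (algebraMap A T' h))
    (ψ1 : CplAway I h →+* CplAway K g)
    (hψ1 : ∀ a, ψ1 (algebraMap A (CplAway I h) a) = algebraMap B (CplAway K g) (algebraMap A B a))
    (hrig : ∀ q : PrimeSpectrum (CplAway K g),
      (¬ (K.map (algebraMap B (Localization.Away g))).map (algebraMap (Localization.Away g) (CplAway K g)) ≤ q.asIdeal ∧
        ∀ y : PrimeSpectrum (CplAway K g), q ≤ y →
          ¬ (K.map (algebraMap B (Localization.Away g))).map (algebraMap (Localization.Away g) (CplAway K g)) ≤ y.asIdeal →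
            y = q) →
      ((algebraMap (CplAway K g) (Localization.AtPrime q.asIdeal)).comp ψ1).Flat)
    (ψ : CplAway I h →ₐ[A] T') (q' : Ideal T') [q'.IsPrime] (hq' : ¬ I.map (algebraMap A T') ≤ q') :
    ((algebraMap T' (Localization.AtPrime q')).comp ψ.toRingHom).Flat := by
  subst hK
  subst hg
  have hKT : (I.map (algebraMap A B)).map (algebraMap B T') = I.map (algebraMap A T') := by
    rw [Ideal.map_map, ← IsScalarTower.algebraMap_eq]
  haveI : IsAdicComplete ((I.map (algebraMap A B)).map (algebraMap B T')) T' := by rw [hKT]; infer_instance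
  haveI := isNoetherianRing_cplAway (I.map (algebraMap A B)) (algebraMap A B h)
  obtain ⟨β, hβ, hβB⟩ := exists_flat_cplAway_lift (T' := T') (I.map (algebraMap A B)) (algebraMap A B h)
    (by rw [← IsScalarTower.algebraMap_apply A B T']; exact hu)
  have e : ψ.toRingHom = β.comp ψ1 := by
    let ψ' : CplAway I h →ₐ[A] T' :=
      { β.comp ψ1 with
        commutes' := fun a => by
          show β (ψ1 (algebraMap A (CplAway I h) a)) = algebraMap A T' a
          rw [hψ1, hβB, ← IsScalarTower.algebraMap_apply A B T'] }
    rw [cplAway_hom_ext I h ψ ψ']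
  rw [e]
  refine rigFlat_comp ψ1 β _ _ rfl hrig ⟨q', ‹_›⟩ (fun hle => hq' ?_)
    (hβ.comp (RingHom.flat_algebraMap_iff.2 (IsLocalization.flat _ q'.primeCompl)))
  refine le_trans ?_ hle
  rw [← hKT, Ideal.map_map (I := I.map (algebraMap A B)),
    ← IsScalarTower.algebraMap_eq B (Localization.Away (algebraMap A B h)) (CplAway _ _), Ideal.map_map,
    Ideal.map_map, Ideal.map_map]
  refine le_of_eq (congrArg (fun φ => Ideal.map φ I) (RingHom.ext fun a => ?_))
  exact (hβB (algebraMap A B a)).symm

end Groth.Agent.RigFlatH7
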