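import Groth.Agent.Lib.RigH7.Complete
import Groth.Agent.Lib.Compl.Noetherian
import Groth.Agent.Lib.FlatH4.LocCrit
import Mathlib.RingTheory.Jacobson.Artinian
import Mathlib.RingTheory.Ideal.KrullsHeightTheorem
import Mathlib.RingTheory.AdicCompletion.Noetherian
import Mathlib.RingTheory.AdicCompletion.AsTensorProduct

/-! Rig-closed points of formal algebras and flatness there. -/

universe u v

open TensorProduct

namespace Groth.Agent.RigFlatH7

theorem isMaximal_of_forall_mem {D : Type u} [CommRing D] [IsDomain D] [IsNoetherianRing D] {a : D}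
    (ha : a ≠ 0) (h : ∀ P : Ideal D, P.IsPrime → P ≠ ⊥ → a ∈ P) (P : Ideal D) [P.IsPrime]
    (hP : P ≠ ⊥) : P.IsMaximal := by
  classical
  have hmin : ∀ Q : Ideal D, Q.IsPrime → a ∈ Q → Q ∈ (Ideal.span {a}).minimalPrimes := by
    intro Q hQ haQ
    by_contra hne
    set S := (Ideal.finite_minimalPrimes_of_isNoetherianRing D (Ideal.span {a})).toFinset with hS
    have hsub : ¬ (Q : Set D) ⊆ ⋃ i ∈ (↑S : Set (Ideal D)), (i : Set D) := by
      intro hsub'
      obtain ⟨i, hi, hQi⟩ := (Ideal.subset_union_prime (f := id) (s := S) ⊥ ⊥ (fun i hi _ _ => by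
        rw [hS, Set.Finite.mem_toFinset] at hi
        exact hi.isPrime)).mp hsub'
      rw [hS, Set.Finite.mem_toFinset] at hi
      exact hne ((le_antisymm hQi (hi.2 ⟨hQ, (Ideal.span_singleton_le_iff_mem _).mpr haQ⟩ hQi)) ▸ hi)
    obtain ⟨x, hxQ, hx⟩ := Set.not_subset.mp hsub
    haveI := hQ
    obtain ⟨Q', hQ', hQ'le⟩ := Ideal.exists_minimalPrimes_le
      ((Ideal.span_singleton_le_iff_mem Q).mpr hxQ)
    haveI := hQ'.isPrime
    have hx0 : x ≠ 0 := by
      rintro rfl
      obtain ⟨i, hi, -⟩ := Ideal.exists_minimalPrimes_le ((Ideal.span_singleton_le_iff_mem Q).mpr haQ)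
      exact hx (Set.mem_biUnion (by rwa [hS, Set.Finite.coe_toFinset]) i.zero_mem)
    have hQ'0 : Q' ≠ ⊥ := fun e => hx0 (by
      have := hQ'.1.2 (Ideal.mem_span_singleton_self x)
      rwa [e, Ideal.mem_bot] at this)
    obtain ⟨i, hi, hile⟩ := Ideal.exists_minimalPrimes_le
      ((Ideal.span_singleton_le_iff_mem Q').mpr (h Q' hQ'.isPrime hQ'0))
    haveI := hi.isPrime
    have hi0 : i ≠ ⊥ := fun e => ha (by
      have := hi.1.2 (Ideal.mem_span_singleton_self a)
      rwa [e, Ideal.mem_bot] at this)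
    have hiQ : i = Q' := by
      by_contra hne'
      have hlt : i < Q' := lt_of_le_of_ne hile hne'
      have h1 := Ideal.height_le_one_of_isPrincipal_of_mem_minimalPrimes (Ideal.span {x}) Q' hQ'
      haveI : i.FiniteHeight := Ideal.finiteHeight_of_isNoetherianRing i
      have h2 := Ideal.height_strict_mono_of_isPrime hlt
      have h3 : i.height = 0 := ENat.lt_one_iff_eq_zero.mp (h2.trans_le h1)
      rw [Ideal.height_eq_zero_iff, IsDomain.minimalPrimes_eq_singleton_bot, Set.mem_singleton_iff] at h3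
      exact hi0 h3
    subst hiQ
    exact hx (Set.mem_biUnion (by rwa [hS, Set.Finite.coe_toFinset])
      (hQ'.1.2 (Ideal.mem_span_singleton_self x)))
  obtain ⟨M, hM, hPM⟩ := Ideal.exists_le_maximal P (Ideal.IsPrime.ne_top ‹_›)
  have hM' := hmin M hM.isPrime (hPM (h P ‹_› hP))
  have := hM'.2 ⟨‹P.IsPrime›, (Ideal.span_singleton_le_iff_mem _).mpr (h P ‹_› hP)⟩ hPM
  exact le_antisymm hPM this ▸ hM

/-- A zero-dimensional algebra of finite type over a Jacobson quotient is finite. -/
theorem finite_of_zeroDim {A : Type u} [CommRing A] [IsNoetherianRing A] (I : Ideal A)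
    [IsJacobsonRing (A ⧸ I)] {E : Type u} [CommRing E] [Algebra A E] [Algebra.FiniteType A E]
    (hI : I.map (algebraMap A E) = ⊥) [Ring.KrullDimLE 0 E] : Module.Finite A E := by
  let K := RingHom.ker (algebraMap A E)
  haveI : IsJacobsonRing (A ⧸ K) := isJacobsonRing_of_surjective ⟨Ideal.Quotient.factor
    (show I ≤ K from fun x hx => RingHom.mem_ker.mpr ((Submodule.mem_bot _).mp (hI ▸ Ideal.mem_map_of_mem _ hx))),
    Ideal.Quotient.factor_surjective _⟩
  letI : Algebra (A ⧸ K) E := (RingHom.kerLift (algebraMap A E)).toAlgebra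
  haveI : IsScalarTower A (A ⧸ K) E := IsScalarTower.of_algebraMap_eq fun r => rfl
  haveI : Algebra.FiniteType (A ⧸ K) E := Algebra.FiniteType.of_restrictScalars_finiteType A _ _
  haveI : Ring.KrullDimLE 0 (A ⧸ K) := .mk₀ fun P hP => by
    haveI := hP
    obtain ⟨P₀, hP₀, hle⟩ := Ideal.exists_minimalPrimes_le (bot_le : ⊥ ≤ P)
    obtain ⟨Q, hQ, hQc⟩ := Ideal.exists_comap_eq_of_mem_minimalPrimes_of_injective
      (RingHom.kerLift_injective (algebraMap A E)) P₀ hP₀
    haveI := hQ
    haveI : Q.IsMaximal := Ring.krullDimLE_zero_iff.mp ‹_› Q hQ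
    letI := Ideal.Quotient.field Q
    haveI : Algebra.FiniteType (A ⧸ K) (E ⧸ Q) :=
      Algebra.FiniteType.of_surjective (A := E) (Ideal.Quotient.mkₐ (A ⧸ K) Q) Ideal.Quotient.mk_surjective
    haveI := finite_of_finite_type_of_isJacobsonRing (A ⧸ K) (E ⧸ Q)
    haveI : Algebra.IsIntegral (A ⧸ K) (E ⧸ Q) := Algebra.IsIntegral.of_finite _ _
    haveI : (⊥ : Ideal (E ⧸ Q)).IsMaximal := Ideal.bot_isMaximal
    have hP₀max : P₀.IsMaximal := by
      have h := Ideal.isMaximal_comap_of_isIntegral_of_isMaximal (R := A ⧸ K) (⊥ : Ideal (E ⧸ Q))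
      rw [IsScalarTower.algebraMap_eq (A ⧸ K) E (E ⧸ Q), ← Ideal.comap_comap,
        Ideal.Quotient.algebraMap_eq, ← RingHom.ker_eq_comap_bot, Ideal.mk_ker] at h
      rw [← hQc]; exact h
    exact hP₀max.eq_of_le hP.ne_top hle ▸ hP₀max
  haveI : IsArtinianRing (A ⧸ K) :=
    isArtinianRing_iff_isNoetherianRing_krullDimLE_zero.mpr ⟨inferInstance, inferInstance⟩
  haveI : Module.Finite (A ⧸ K) E :=
    (Module.finite_iff_krullDimLE_zero (R := A ⧸ K) (A := E)).mpr inferInstance
  exact Module.Finite.trans (A ⧸ K) E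

/-- Complete Nakayama. -/
theorem finite_of_finite_mod {A : Type u} [CommRing A] [IsNoetherianRing A] (I : Ideal A)
    [IsAdicComplete I A] {D : Type u} [CommRing D] [IsNoetherianRing D] [Algebra A D]
    (hjac : I.map (algebraMap A D) ≤ (⊥ : Ideal D).jacobson)
    [Module.Finite A (D ⧸ I.map (algebraMap A D))] : Module.Finite A D := by
  classical
  obtain ⟨n, s, hs⟩ := Module.Finite.exists_fin (R := A) (M := D ⧸ I.map (algebraMap A D))
  choose s' hs' using fun i => Ideal.Quotient.mk_surjective (s i)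
  haveI : IsHausdorff (I.map (algebraMap A D)) D := IsHausdorff.of_le_jacobson _ _ hjac
  haveI : IsHausdorff I D := (IsHausdorff.map_algebraMap_iff (S := D)).mp inferInstance
  haveI : IsPrecomplete I (Fin n → A) := by
    rw [← AdicCompletion.of_surjective_iff]
    intro x
    choose a ha using fun j : Fin n => AdicCompletion.of_surjective I A
      (AdicCompletion.piEquivOfFintype I (fun _ : Fin n => A) x j)
    refine ⟨a, (AdicCompletion.piEquivOfFintype I (fun _ : Fin n => A)).injective (funext fun j => ?_)⟩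
    rw [← ha j, AdicCompletion.piEquivOfFintype_apply]
    exact AdicCompletion.ext fun k => rfl
  refine Module.Finite.of_surjective (Fintype.linearCombination A s') (surjective_of_mkQ_comp_surjective (I := I) ?_)
  intro y
  obtain ⟨y, rfl⟩ := Submodule.mkQ_surjective _ y
  have hy : Ideal.Quotient.mk _ y ∈ Submodule.span A (Set.range s) := hs ▸ Submodule.mem_top
  rw [← Fintype.range_linearCombination] at hy
  obtain ⟨c, hc⟩ := hy
  refine ⟨c, (Submodule.Quotient.eq _).mpr ?_⟩
  rw [Ideal.smul_top_eq_map, Submodule.restrictScalars_mem]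
  refine Ideal.Quotient.eq.mp ?_
  rw [← hc, Fintype.linearCombination_apply, Fintype.linearCombination_apply, map_sum]
  refine Finset.sum_congr rfl fun i _ => ?_
  rw [← hs' i]; rfl

/-- The coordinate ring of a rig-closed point is finite over the base, of dimension one. -/
theorem finite_of_rigClosed {A : Type u} [CommRing A] [IsNoetherianRing A] (I : Ideal A)
    [IsAdicComplete I A] [IsJacobsonRing (A ⧸ I)] {D : Type u} [CommRing D] [IsDomain D]
    [IsNoetherianRing D] [Algebra A D] (hne : I.map (algebraMap A D) ≠ ⊥)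
    (hjac : I.map (algebraMap A D) ≤ (⊥ : Ideal D).jacobson)
    [Algebra.FiniteType A (D ⧸ I.map (algebraMap A D))]
    (h : ∀ P : Ideal D, P.IsPrime → P ≠ ⊥ → I.map (algebraMap A D) ≤ P) : Module.Finite A D := by
  obtain ⟨a, ha, ha0⟩ := Submodule.exists_mem_ne_zero_of_ne_bot hne
  set J := I.map (algebraMap A D)
  haveI : Ring.KrullDimLE 0 (D ⧸ J) := .mk₀ fun q hq => by
    haveI := hq
    have hle : J ≤ q.comap (Ideal.Quotient.mk J) := le_trans (le_of_eq Ideal.mk_ker.symm) (Ideal.ker_le_comap _)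
    have hmax : (q.comap (Ideal.Quotient.mk J)).IsMaximal :=
      isMaximal_of_forall_mem ha0 (fun P hP hP0 => h P hP hP0 ha) _ fun e => ha0 (by
        have := hle ha
        rwa [e, Ideal.mem_bot] at this)
    rw [← Ideal.map_comap_of_surjective _ Ideal.Quotient.mk_surjective q]
    exact (Ideal.map_eq_top_or_isMaximal_of_surjective _ Ideal.Quotient.mk_surjective hmax).resolve_left
      (by rw [Ideal.map_comap_of_surjective _ Ideal.Quotient.mk_surjective q]; exact hq.ne_top)
  haveI : Module.Finite A (D ⧸ J) := finite_of_zeroDim I (by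
    rw [IsScalarTower.algebraMap_eq A D (D ⧸ J), ← Ideal.map_map, Ideal.Quotient.algebraMap_eq]
    exact Ideal.map_quotient_self J)
  exact finite_of_finite_mod I hjac

end Groth.Agent.RigFlatH7
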