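import Groth.Agent.Lib.RigFlatH7.CplFunctor
import Groth.Agent.Lib.HopfFF23.Basic

/-! Descent of flatness at rig-closed points. -/

set_option autoImplicit false
universe u

namespace Groth.Agent.RigFlatH7

variable {P Q P' Q' : Type u} [CommRing P] [CommRing Q] [CommRing P'] [CommRing Q'] [IsNoetherianRing Q']

/-- Flatness at the rig-closed points descends along a faithfully flat map of the target. -/
theorem rigFlat_descent (α : P →+* P') (β : Q →+* Q') (ψ : P →+* Q) (ψ' : P' →+* Q') (hα : α.Flat)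
    (hβ : β.FaithfullyFlat) (hcomm : ψ'.comp α = β.comp ψ) (J : Ideal Q) (J' : Ideal Q') (hJ : J.map β = J')
    (h : ∀ q' : PrimeSpectrum Q', (¬ J' ≤ q'.asIdeal ∧ ∀ y : PrimeSpectrum Q', q' ≤ y → ¬ J' ≤ y.asIdeal → y = q') →
      ((algebraMap Q' (Localization.AtPrime q'.asIdeal)).comp ψ').Flat)
    (q : PrimeSpectrum Q) (hq : ¬ J ≤ q.asIdeal ∧ ∀ y : PrimeSpectrum Q, q ≤ y → ¬ J ≤ y.asIdeal → y = q) :
    ((algebraMap Q (Localization.AtPrime q.asIdeal)).comp ψ).Flat := by
  subst hJ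
  obtain ⟨hfl, hsurj⟩ := RingHom.FaithfullyFlat.iff_flat_and_comap_surjective.1 hβ
  obtain ⟨q₀, hq₀⟩ := hsurj q
  let S : Set (Ideal Q') := {p | p.IsPrime ∧ p.comap β = q.asIdeal}
  obtain ⟨p, ⟨hp, hpq⟩, hmax⟩ := WellFounded.has_min (r := (· > ·)) wellFounded_gt S
    ⟨q₀.asIdeal, q₀.2, congrArg PrimeSpectrum.asIdeal hq₀⟩
  haveI := hp
  let q' : PrimeSpectrum Q' := ⟨p, hp⟩
  have hrig : ¬ J.map β ≤ q'.asIdeal ∧ ∀ y : PrimeSpectrum Q', q' ≤ y → ¬ J.map β ≤ y.asIdeal → y = q' := by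
    refine ⟨fun hle => hq.1 (hpq ▸ Ideal.map_le_iff_le_comap.1 hle), fun y hy hyJ => ?_⟩
    have h1 : PrimeSpectrum.comap β y = q :=
      hq.2 _ (show q.asIdeal ≤ y.asIdeal.comap β from hpq ▸ Ideal.comap_mono hy)
        fun hle => hyJ (Ideal.map_le_iff_le_comap.2 hle)
    refine PrimeSpectrum.ext ?_
    by_contra hne
    exact hmax y.asIdeal ⟨y.2, congrArg PrimeSpectrum.asIdeal h1⟩ (lt_of_le_of_ne hy (Ne.symm hne))
  let β' := Localization.localRingHom q.asIdeal p β hpq.symm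
  have hβ' : β'.FaithfullyFlat := by
    letI := β'.toAlgebra
    haveI : Module.Flat (Localization.AtPrime q.asIdeal) (Localization.AtPrime p) :=
      RingHom.Flat.localRingHom hfl p q.asIdeal hpq.symm
    haveI : IsLocalHom (algebraMap (Localization.AtPrime q.asIdeal) (Localization.AtPrime p)) :=
      Localization.isLocalHom_localRingHom q.asIdeal p β hpq.symm
    exact Module.FaithfullyFlat.of_flat_of_isLocalHom
  refine HopfFF23.flat_of_comp_faithfullyFlat _ β' hβ' ?_
  have h2 := RingHom.Flat.comp hα (h q' hrig)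
  have e : β'.comp ((algebraMap Q (Localization.AtPrime q.asIdeal)).comp ψ) =
      ((algebraMap Q' (Localization.AtPrime p)).comp ψ').comp α := by
    rw [RingHom.comp_assoc, hcomm]
    refine RingHom.ext fun x => ?_
    exact Localization.localRingHom_to_map q.asIdeal p β hpq.symm (ψ x)
  rw [e]
  exact h2

end Groth.Agent.RigFlatH7
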