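import Groth.Agent.Lib.RigFlatH7.RigEtaleAux

/-! Rig flatness and étale reductions. -/

set_option autoImplicit false
set_option linter.style.haveILetI false
universe u

namespace Groth.Agent.RigFlatH7

/-- The second contraction, over an abstract completed localisation. -/
theorem flat_of_rigFlat_etale_step {A : Type u} [CommRing A] [IsNoetherianRing A] (I : Ideal A) [IsAdicComplete I A]
    {R T D : Type u} [CommRing R] [CommRing T] [CommRing D] [IsDomain D] [Algebra A R] [Algebra A T] [Algebra R T]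
    [IsScalarTower A R T] [IsNoetherianRing R] [IsNoetherianRing T] [IsAdicComplete (I.map (algebraMap A R)) R]
    (hftR : Algebra.FiniteType A (R ⧸ I.map (algebraMap A R))) [Module.Flat A R]
    [Algebra.Etale (A ⧸ I) (R ⧸ I.map (algebraMap A R))]
    [Algebra A D] [Algebra T D] [IsScalarTower A T D] [IsAdicComplete (I.map (algebraMap A D)) D]
    (p : PrimeSpectrum R) (hpD : p.asIdeal = RingHom.ker ((algebraMap T D).comp (algebraMap R T)))
    (hp : ¬ I.map (algebraMap A R) ≤ p.asIdeal ∧
      ∀ y : PrimeSpectrum R, p ≤ y → ¬ I.map (algebraMap A R) ≤ y.asIdeal → y = p)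
    (q : Ideal T) [q.IsPrime] (hqD : q = RingHom.ker (algebraMap T D))
    (hT : ∀ (h : A) (T' : Type u) [CommRing T'] [Algebra A T'] [Algebra T T'] [IsScalarTower A T T']
      [IsNoetherianRing T'] [IsAdicComplete (I.map (algebraMap A T')) T'] [Module.Flat T T'],
      IsUnit (algebraMap A T' h) → ∀ (ψ : CplAway I h →ₐ[A] T') (q' : Ideal T') [q'.IsPrime],
        ¬ I.map (algebraMap A T') ≤ q' → ((algebraMap T' (Localization.AtPrime q')).comp ψ.toRingHom).Flat) :
    ((algebraMap T (Localization.AtPrime q)).comp (algebraMap R T)).Flat := by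
  classical
  haveI := p.isPrime
  obtain ⟨h, hhu, h2⟩ := Groth.Agent.S8840.result A I R hftR p hp
  let IR := I.map (algebraMap A R)
  let A2 := CplAway I h
  let hR := algebraMap A R h
  let R2 := CplAway IR hR
  haveI : IsNoetherianRing A2 := isNoetherianRing_cplAway I h
  haveI : IsNoetherianRing R2 := isNoetherianRing_cplAway IR hR
  haveI : IsAdicComplete (I.map (algebraMap A A2)) A2 := isAdicComplete_cplAway I h
  have hle2 : (I.map (algebraMap A (Localization.Away h))).map (Localization.awayMap (algebraMap A R) h) =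
      IR.map (algebraMap R (Localization.Away hR)) := by
    simp only [IR, Ideal.map_map]
    exact congrArg (fun φ => Ideal.map φ I) (RingHom.ext fun a => awayMap_algebraMap _ h a)
  let ψ2 : A2 →+* R2 := FSch.complMap _ _ (Localization.awayMap (algebraMap A R) h) hle2.le
  have hψ2A : ∀ a, ψ2 (algebraMap A A2 a) = algebraMap A R2 a := fun a => by
    rw [IsScalarTower.algebraMap_apply A (Localization.Away h) A2, IsScalarTower.algebraMap_apply A R R2]
    exact ((FormalH7.complMap_algebraMap _ _ _ hle2.le _).trans (congrArg _ (awayMap_algebraMap _ h a))).trans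
      (IsScalarTower.algebraMap_apply R (Localization.Away hR) R2 _).symm
  letI algA2 : Algebra A2 R2 := ψ2.toAlgebra
  haveI : IsScalarTower A A2 R2 := IsScalarTower.of_algebraMap_eq fun a => (hψ2A a).symm
  have eR2 : I.map (algebraMap A R2) = IR.map (algebraMap R R2) := map_eq_map_cplAway hR I IR rfl
  have eA2 : (I.map (algebraMap A A2)).map (algebraMap A2 R2) = I.map (algebraMap A R2) :=
    (Ideal.map_map _ _).trans (congrArg (fun φ => Ideal.map φ I) (IsScalarTower.algebraMap_eq A A2 R2).symm)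
  haveI hcR2 : IsAdicComplete ((I.map (algebraMap A A2)).map (algebraMap A2 R2)) R2 := by
    rw [eA2, eR2]; exact isAdicComplete_cplAway IR hR
  have hftR2 : Algebra.FiniteType A2 (R2 ⧸ (I.map (algebraMap A A2)).map (algebraMap A2 R2)) := by
    haveI : IsScalarTower A A2 (R2 ⧸ (I.map (algebraMap A A2)).map (algebraMap A2 R2)) :=
      IsScalarTower.of_algebraMap_eq fun a => congrArg (Ideal.Quotient.mk _) (hψ2A a).symm
    haveI : Algebra.FiniteType A (R2 ⧸ (I.map (algebraMap A A2)).map (algebraMap A2 R2)) := by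
      rw [eA2, eR2]; exact finiteType_cplAway IR hR A hftR
    exact Algebra.FiniteType.of_restrictScalars_finiteType A _ _
  haveI hflA2R2 : Module.Flat A2 R2 := by
    haveI : IsNoetherianRing (Localization.Away h) := IsLocalization.isNoetherianRing (Submonoid.powers h) _ inferInstance
    haveI : IsNoetherianRing (Localization.Away hR) := IsLocalization.isNoetherianRing (Submonoid.powers hR) _ inferInstance
    exact FormalH7.flat_complMap _ _ _ (flat_awayMap _ (RingHom.flat_algebraMap_iff.2 ‹Module.Flat A R›) h) hle2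
  haveI hEt : Algebra.Etale (A2 ⧸ I.map (algebraMap A A2)) (R2 ⧸ (I.map (algebraMap A A2)).map (algebraMap A2 R2)) := by
    haveI hE : Algebra.Etale (A ⧸ I) (R2 ⧸ I.map (algebraMap A R2)) := etale_reduction_cplAway hR I
    haveI := isLocalizationAway_quotient I h
    haveI : Algebra.Etale (A ⧸ I) (A2 ⧸ I.map (algebraMap A A2)) :=
      Algebra.Etale.of_isLocalizationAway (Ideal.Quotient.mk I h)
    let J2 := (I.map (algebraMap A A2)).map (algebraMap A2 R2)
    letI : Algebra (A ⧸ I) (R2 ⧸ J2) :=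
      ((algebraMap (A2 ⧸ I.map (algebraMap A A2)) (R2 ⧸ J2)).comp
        (algebraMap (A ⧸ I) (A2 ⧸ I.map (algebraMap A A2)))).toAlgebra
    haveI : IsScalarTower (A ⧸ I) (A2 ⧸ I.map (algebraMap A A2)) (R2 ⧸ J2) := IsScalarTower.of_algebraMap_eq fun _ => rfl
    haveI : Algebra.Etale (A ⧸ I) (R2 ⧸ J2) :=
      Algebra.Etale.of_equiv (AlgEquiv.ofRingEquiv (f := Ideal.quotEquivOfEq eA2.symm) fun a => by
        obtain ⟨a, rfl⟩ := Ideal.Quotient.mk_surjective a
        exact congrArg (Ideal.Quotient.mk J2) (hψ2A a).symm)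
    exact Algebra.Etale.of_restrictScalars (A ⧸ I) _ _
  -- the prime of `R2`
  haveI : IsAdicComplete (IR.map (algebraMap R (R ⧸ p.asIdeal))) (R ⧸ p.asIdeal) :=
    (IsAdicComplete.map_algebraMap_iff IR (R ⧸ p.asIdeal)).mpr (Compl.isAdicComplete_of_finite IR (R ⧸ p.asIdeal))
  obtain ⟨δ2⟩ := exists_cplAway_lift IR hR (D := R ⧸ p.asIdeal) hhu
  let P2 : PrimeSpectrum R2 := ⟨RingHom.ker δ2.toRingHom, RingHom.ker_isPrime _⟩
  have hP2 : ¬ (I.map (algebraMap A A2)).map (algebraMap A2 R2) ≤ P2.asIdeal ∧ ∀ y : PrimeSpectrum R2, P2 ≤ y →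
      ¬ (I.map (algebraMap A A2)).map (algebraMap A2 R2) ≤ y.asIdeal → y = P2 := by
    rw [eA2, eR2]
    exact rigClosed_ker p hp δ2 P2 rfl
  have hψ2 := h2 ψ2 (RingHom.ext (FormalH7.complMap_algebraMap _ _ _ hle2.le))
  have hp2 : ¬ I.map (algebraMap A A2) ≤ (PrimeSpectrum.comap (algebraMap A2 R2) P2).asIdeal ∧
      ∀ y : PrimeSpectrum A2, PrimeSpectrum.comap (algebraMap A2 R2) P2 ≤ y → ¬ I.map (algebraMap A A2) ≤ y.asIdeal →
        y = PrimeSpectrum.comap (algebraMap A2 R2) P2 := by
    have hn : ¬ I.map (algebraMap A A2) ≤ (PrimeSpectrum.comap (algebraMap A2 R2) P2).asIdeal := fun hle =>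
      hP2.1 (Ideal.map_le_iff_le_comap.2 hle)
    have hle : (p.asIdeal.map (algebraMap R R2)).comap ψ2 ≤ (PrimeSpectrum.comap (algebraMap A2 R2) P2).asIdeal :=
      Ideal.comap_mono (Ideal.map_le_iff_le_comap.2 fun x hx => by
        show δ2 (algebraMap R R2 x) = 0
        rw [AlgHom.commutes]; exact Ideal.Quotient.eq_zero_iff_mem.2 hx)
    refine ⟨hn, fun y hy hyI => PrimeSpectrum.ext ?_⟩
    exact (hψ2.2.2 y (hle.trans hy) hyI).trans (hψ2.2.2 (PrimeSpectrum.comap (algebraMap A2 R2) P2) hle hn).symm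
  -- the target
  let IT := I.map (algebraMap A T)
  let hT' := algebraMap R T hR
  let T2 := CplAway IT hT'
  haveI : IsNoetherianRing T2 := isNoetherianRing_cplAway IT hT'
  have hle3 : (IR.map (algebraMap R (Localization.Away hR))).map (Localization.awayMap (algebraMap R T) hR) ≤
      IT.map (algebraMap T (Localization.Away hT')) := by
    refine le_of_eq ?_
    simp only [IR, IT, Ideal.map_map]
    refine congrArg (fun φ => Ideal.map φ I) (RingHom.ext fun a => ?_)
    exact (awayMap_algebraMap (algebraMap R T) hR _).trans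
      (congrArg _ (IsScalarTower.algebraMap_apply A R T a).symm)
  let ψ3 : R2 →+* T2 := FSch.complMap _ _ (Localization.awayMap (algebraMap R T) hR) hle3
  have hψ3R : ∀ x, ψ3 (algebraMap R R2 x) = algebraMap T T2 (algebraMap R T x) := fun x => by
    rw [IsScalarTower.algebraMap_apply R (Localization.Away hR) R2]
    exact ((FormalH7.complMap_algebraMap _ _ _ hle3 _).trans (congrArg _ (awayMap_algebraMap _ hR x))).trans
      (IsScalarTower.algebraMap_apply T (Localization.Away hT') T2 _).symm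
  have hψ3A : ∀ a, ψ3 (algebraMap A R2 a) = algebraMap A T2 a := fun a => by
    rw [IsScalarTower.algebraMap_apply A R R2, hψ3R, ← IsScalarTower.algebraMap_apply A R T,
      ← IsScalarTower.algebraMap_apply A T T2]
  let ψA : CplAway I h →ₐ[A] T2 :=
    { ψ3.comp ψ2 with commutes' := fun a => (congrArg ψ3 (hψ2A a)).trans (hψ3A a) }
  haveI hcD : IsAdicComplete (IT.map (algebraMap T D)) D := by
    rw [Ideal.map_map, ← IsScalarTower.algebraMap_eq]; infer_instance
  let ι : R ⧸ p.asIdeal →+* D :=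
    Ideal.Quotient.lift p.asIdeal ((algebraMap T D).comp (algebraMap R T)) fun x hx => RingHom.mem_ker.1 (hpD.le hx)
  have hιi : Function.Injective ι := (injective_iff_map_eq_zero ι).2 fun z hz => by
    obtain ⟨x, rfl⟩ := Ideal.Quotient.mk_surjective z
    rw [Ideal.Quotient.lift_mk] at hz
    exact Ideal.Quotient.eq_zero_iff_mem.2 (hpD.ge hz)
  have hTD : IsUnit (algebraMap T D hT') := hhu.map ι
  obtain ⟨δ3⟩ := exists_cplAway_lift IT hT' (D := D) hTD
  let Q2 : PrimeSpectrum T2 := ⟨RingHom.ker δ3.toRingHom, RingHom.ker_isPrime _⟩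
  haveI := Q2.isPrime
  have hQ2q : q = Q2.asIdeal.comap (algebraMap T T2) := by
    ext t
    show t ∈ q ↔ δ3 (algebraMap T T2 t) = 0
    rw [AlgHom.commutes, hqD, RingHom.mem_ker]
  have hQ2P2 : P2.asIdeal = Q2.asIdeal.comap ψ3 := by
    letI : Algebra R D := ((algebraMap T D).comp (algebraMap R T)).toAlgebra
    haveI : IsScalarTower A R D := IsScalarTower.of_algebraMap_eq fun a => by
      show algebraMap A D a = algebraMap T D (algebraMap R T (algebraMap A R a))
      rw [← IsScalarTower.algebraMap_apply A R T, ← IsScalarTower.algebraMap_apply A T D]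
    haveI : IsAdicComplete (IR.map (algebraMap R D)) D := by
      rw [Ideal.map_map, ← IsScalarTower.algebraMap_eq]; infer_instance
    let G : R2 →ₐ[R] D :=
      { δ3.toRingHom.comp ψ3 with
        commutes' := fun x => (congrArg δ3 (hψ3R x)).trans (δ3.commutes (algebraMap R T x)) }
    let ι' : (R ⧸ p.asIdeal) →ₐ[R] D := { ι with commutes' := fun x => rfl }
    have hG : G = ι'.comp δ2 := cplAway_hom_ext IR hR _ _
    ext x
    show δ2 x = 0 ↔ δ3 (ψ3 x) = 0
    rw [show δ3 (ψ3 x) = ι (δ2 x) from DFunLike.congr_fun hG x]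
    exact (map_eq_zero_iff ι hιi).symm
  have eT2 : I.map (algebraMap A T2) = IT.map (algebraMap T T2) := map_eq_map_cplAway hT' I IT rfl
  haveI : IsAdicComplete (I.map (algebraMap A T2)) T2 := by rw [eT2]; exact isAdicComplete_cplAway IT hT'
  haveI hflTT2 : Module.Flat T T2 := flat_cplAway IT hT'
  have hkT2 : IsUnit (algebraMap A T2 h) := by
    rw [IsScalarTower.algebraMap_apply A T T2, IsScalarTower.algebraMap_apply A R T]
    exact isUnit_cplAway IT hT'
  have hQ2n : ¬ I.map (algebraMap A T2) ≤ Q2.asIdeal := fun hle => hp.1 (Ideal.map_le_iff_le_comap.2 fun a ha => by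
    have h3 : δ3 (algebraMap A T2 a) = 0 := hle (Ideal.mem_map_of_mem _ ha)
    rw [IsScalarTower.algebraMap_apply A T T2, AlgHom.commutes, IsScalarTower.algebraMap_apply A R T] at h3
    exact hpD.ge h3)
  have hflA2 := hT h T2 hkT2 ψA Q2.asIdeal hQ2n
  letI : Algebra A2 T2 := (ψ3.comp ψ2).toAlgebra
  letI : Algebra R2 T2 := ψ3.toAlgebra
  haveI : IsScalarTower A2 R2 T2 := IsScalarTower.of_algebraMap_eq fun _ => rfl
  have h5 : ((algebraMap T2 (Localization.AtPrime Q2.asIdeal)).comp (algebraMap R2 T2)).Flat :=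
    flat_of_rigClosed_etale (A := A2) (I.map (algebraMap A A2)) hftR2 Q2 P2 hQ2P2 hP2 hp2 hflA2
  exact flat_descend (algebraMap R R2) (algebraMap T T2) (algebraMap R T) ψ3
    (RingHom.flat_algebraMap_iff.2 (flat_cplAway IR hR)) (RingHom.flat_algebraMap_iff.2 hflTT2) hψ3R q Q2.asIdeal hQ2q h5

theorem flat_of_rigFlat_etale {A : Type u} [CommRing A] [IsNoetherianRing A] (I : Ideal A) [IsAdicComplete I A]
    {R T : Type u} [CommRing R] [CommRing T] [Algebra A R] [Algebra A T] [Algebra R T] [IsScalarTower A R T]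
    [IsNoetherianRing R] [IsNoetherianRing T] [IsAdicComplete (I.map (algebraMap A R)) R]
    [IsAdicComplete (I.map (algebraMap A T)) T] (hftR : Algebra.FiniteType A (R ⧸ I.map (algebraMap A R)))
    (hftT : Algebra.FiniteType A (T ⧸ I.map (algebraMap A T))) [Module.Flat A R]
    [Algebra.Etale (A ⧸ I) (R ⧸ I.map (algebraMap A R))]
    (q : PrimeSpectrum T) (hq : ¬ I.map (algebraMap A T) ≤ q.asIdeal ∧
      ∀ y : PrimeSpectrum T, q ≤ y → ¬ I.map (algebraMap A T) ≤ y.asIdeal → y = q)
    (hT : ∀ (h : A) (T' : Type u) [CommRing T'] [Algebra A T'] [Algebra T T'] [IsScalarTower A T T']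
      [IsNoetherianRing T'] [IsAdicComplete (I.map (algebraMap A T')) T'] [Module.Flat T T'],
      IsUnit (algebraMap A T' h) → ∀ (ψ : CplAway I h →ₐ[A] T') (q' : Ideal T') [q'.IsPrime],
        ¬ I.map (algebraMap A T') ≤ q' → ((algebraMap T' (Localization.AtPrime q')).comp ψ.toRingHom).Flat) :
    ((algebraMap T (Localization.AtPrime q.asIdeal)).comp (algebraMap R T)).Flat := by
  classical
  haveI := q.isPrime
  let IR := I.map (algebraMap A R)
  have hTR : IR.map (algebraMap R T) = I.map (algebraMap A T) := by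
    rw [Ideal.map_map, ← IsScalarTower.algebraMap_eq]
  let IT := IR.map (algebraMap R T)
  haveI : IsAdicComplete IT T := by rw [show IT = I.map (algebraMap A T) from hTR]; infer_instance
  have hftTA : Algebra.FiniteType A (T ⧸ IT) := by rw [show IT = I.map (algebraMap A T) from hTR]; exact hftT
  have hftTR : Algebra.FiniteType R (T ⧸ IT) := Algebra.FiniteType.of_restrictScalars_finiteType A _ _
  obtain ⟨g, hgu, h1⟩ := Groth.Agent.S8840.result R IR T hftTR q (by rw [hTR]; exact hq)
  let R1 := CplAway IR g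
  let T1 := CplAway IT (algebraMap R T g)
  haveI : IsNoetherianRing R1 := isNoetherianRing_cplAway IR g
  haveI : IsNoetherianRing T1 := isNoetherianRing_cplAway IT (algebraMap R T g)
  have hle1 : (IR.map (algebraMap R (Localization.Away g))).map (Localization.awayMap (algebraMap R T) g) ≤
      IT.map (algebraMap T (Localization.Away (algebraMap R T g))) := by
    refine le_of_eq ?_
    simp only [IT, Ideal.map_map]
    exact congrArg (fun φ => Ideal.map φ IR) (RingHom.ext fun a => awayMap_algebraMap _ g a)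
  let ψ1 : R1 →+* T1 := FSch.complMap _ _ (Localization.awayMap (algebraMap R T) g) hle1
  have hψ1 := h1 ψ1 (RingHom.ext (FormalH7.complMap_algebraMap _ _ _ hle1))
  have hψ1R : ∀ r, ψ1 (algebraMap R R1 r) = algebraMap T T1 (algebraMap R T r) := fun r => by
    rw [IsScalarTower.algebraMap_apply R (Localization.Away g) R1]
    exact ((FormalH7.complMap_algebraMap _ _ _ hle1 _).trans (congrArg _ (awayMap_algebraMap _ g r))).trans
      (IsScalarTower.algebraMap_apply T (Localization.Away (algebraMap R T g)) T1 _).symm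
  haveI : IsAdicComplete (IT.map (algebraMap T (T ⧸ q.asIdeal))) (T ⧸ q.asIdeal) :=
    (IsAdicComplete.map_algebraMap_iff IT (T ⧸ q.asIdeal)).mpr (Compl.isAdicComplete_of_finite IT (T ⧸ q.asIdeal))
  obtain ⟨δ1⟩ := exists_cplAway_lift IT (algebraMap R T g) (D := T ⧸ q.asIdeal) hgu
  have eR1 : I.map (algebraMap A R1) = IR.map (algebraMap R R1) := map_eq_map_cplAway g I IR rfl
  letI algR1 : Algebra R1 T1 := ψ1.toAlgebra
  haveI : IsScalarTower A R1 T1 := IsScalarTower.of_algebraMap_eq fun a => by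
    show algebraMap A T1 a = ψ1 (algebraMap A R1 a)
    rw [IsScalarTower.algebraMap_apply A R R1, hψ1R, ← IsScalarTower.algebraMap_apply A R T,
      ← IsScalarTower.algebraMap_apply A T T1]
  letI algT1D : Algebra T1 (T ⧸ q.asIdeal) := δ1.toRingHom.toAlgebra
  haveI : IsScalarTower A T1 (T ⧸ q.asIdeal) := IsScalarTower.of_algebraMap_eq fun a => by
    show algebraMap A (T ⧸ q.asIdeal) a = δ1 (algebraMap A T1 a)
    rw [IsScalarTower.algebraMap_apply A T T1, AlgHom.commutes]
    rfl
  haveI : IsAdicComplete (I.map (algebraMap A (T ⧸ q.asIdeal))) (T ⧸ q.asIdeal) := by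
    rw [IsScalarTower.algebraMap_eq A T (T ⧸ q.asIdeal), ← Ideal.map_map, ← hTR]
    infer_instance
  let p1 : PrimeSpectrum R1 := ⟨RingHom.ker (δ1.toRingHom.comp ψ1), RingHom.ker_isPrime _⟩
  let Q1 : PrimeSpectrum T1 := ⟨RingHom.ker δ1.toRingHom, RingHom.ker_isPrime _⟩
  haveI := Q1.isPrime
  have hqQ1 : q.asIdeal = Q1.asIdeal.comap (algebraMap T T1) := by
    ext t
    show t ∈ q.asIdeal ↔ δ1 (algebraMap T T1 t) = 0
    rw [AlgHom.commutes]
    exact Ideal.Quotient.eq_zero_iff_mem.symm
  have hp1 : ¬ I.map (algebraMap A R1) ≤ p1.asIdeal ∧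
      ∀ y : PrimeSpectrum R1, p1 ≤ y → ¬ I.map (algebraMap A R1) ≤ y.asIdeal → y = p1 := by
    have hn : ¬ I.map (algebraMap A R1) ≤ p1.asIdeal := fun hle => hq.1 (Ideal.map_le_iff_le_comap.2 fun a ha => by
      have h3 : δ1 (ψ1 (algebraMap A R1 a)) = 0 := hle (Ideal.mem_map_of_mem _ ha)
      rw [IsScalarTower.algebraMap_apply A R R1, hψ1R, AlgHom.commutes, ← IsScalarTower.algebraMap_apply A R T] at h3
      show algebraMap A T a ∈ q.asIdeal
      exact Ideal.Quotient.eq_zero_iff_mem.1 h3)
    have hle : (q.asIdeal.map (algebraMap T T1)).comap ψ1 ≤ p1.asIdeal :=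
      Ideal.comap_mono (Ideal.map_le_iff_le_comap.2 fun x hx => hqQ1.le hx)
    refine ⟨hn, fun y hy hyI => PrimeSpectrum.ext ?_⟩
    exact (hψ1.2.2 y (hle.trans hy) (by rw [← eR1]; exact hyI)).trans
      (hψ1.2.2 p1 hle (by rw [← eR1]; exact hn)).symm
  haveI : IsAdicComplete (I.map (algebraMap A R1)) R1 := by rw [eR1]; exact isAdicComplete_cplAway IR g
  have hftR1 : Algebra.FiniteType A (R1 ⧸ I.map (algebraMap A R1)) := by
    rw [eR1]; exact finiteType_cplAway IR g A hftR
  haveI : Module.Flat A R1 := by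
    haveI := flat_cplAway IR g
    exact Module.Flat.trans A R R1
  haveI : Algebra.Etale (A ⧸ I) (R1 ⧸ I.map (algebraMap A R1)) := etale_reduction_cplAway g I
  have hflTT1 : Module.Flat T T1 := flat_cplAway IT (algebraMap R T g)
  have h5 : ((algebraMap T1 (Localization.AtPrime Q1.asIdeal)).comp (algebraMap R1 T1)).Flat :=
    flat_of_rigFlat_etale_step (D := T ⧸ q.asIdeal) I hftR1 p1 rfl hp1 Q1.asIdeal rfl
      fun h T' _ _ _ _ _ _ _ hu ψ q' _ hq' => by
        letI : Algebra T T' := ((algebraMap T1 T').comp (algebraMap T T1)).toAlgebra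
        haveI : IsScalarTower T T1 T' := IsScalarTower.of_algebraMap_eq fun _ => rfl
        haveI : IsScalarTower A T T' := IsScalarTower.of_algebraMap_eq fun a => by
          rw [IsScalarTower.algebraMap_apply A T1 T', IsScalarTower.algebraMap_apply A T T1]
          rfl
        haveI := hflTT1
        haveI : Module.Flat T T' := Module.Flat.trans T T1 T'
        exact hT h T' hu ψ q' hq'
  exact flat_descend (algebraMap R R1) (algebraMap T T1) (algebraMap R T) ψ1
    (RingHom.flat_algebraMap_iff.2 (flat_cplAway IR g)) (RingHom.flat_algebraMap_iff.2 hflTT1) hψ1R q.asIdeal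
    Q1.asIdeal hqQ1 h5

end Groth.Agent.RigFlatH7
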